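import Mathlib.RingTheory.Ideal.KrullsHeightTheorem
import Mathlib.RingTheory.MvPolynomial.Localization
import Mathlib.RingTheory.Polynomial.UniqueFactorization
import Mathlib.Algebra.MvPolynomial.Nilpotent
import Mathlib.RingTheory.Localization.FractionRing
import Groth.Agent.DivX.CodimOne

/-!
# Height one primes of a polynomial ring in several variables
-/

universe u

open MvPolynomial

namespace Groth.Agent.WDivX

variable {σ A : Type u} [CommRing A] [IsDomain A]

local notation "B" => MvPolynomial σ A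

theorem map_C_ne_bot {I : Ideal A} (h : I ≠ ⊥) : I.map (C : A →+* B) ≠ ⊥ := fun hh =>
  h ((Ideal.map_eq_bot_iff_of_injective (C_injective σ A)).mp hh)

omit [IsDomain A] in
theorem comap_map_C (p : Ideal A) : (p.map (C : A →+* B)).comap C = p := by
  refine le_antisymm (fun a ha => ?_) Ideal.le_comap_map
  have := (mem_map_C_iff (σ := σ)).mp (show C a ∈ p.map (C : A →+* B) from ha) 0
  simpa using this

omit [IsDomain A] in
theorem isPrime_map_C (p : Ideal A) [p.IsPrime] : (p.map (C : A →+* B)).IsPrime := by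
  haveI : IsDomain (MvPolynomial σ (A ⧸ p)) := inferInstance
  have h : p.map (C : A →+* B) = RingHom.ker (MvPolynomial.map (Ideal.Quotient.mk p)) := by
    rw [MvPolynomial.ker_map, Ideal.mk_ker]
  rw [h]
  exact RingHom.ker_isPrime _

theorem eq_of_le_height_one {R : Type*} [CommRing R] [IsDomain R] {Q P : Ideal R} [P.IsPrime]
    (hQ : Q.IsPrime) (hQ0 : Q ≠ ⊥) (hQP : Q ≤ P) (hP : P.height = 1) : Q = P := by
  haveI : P.FiniteHeight := ⟨Or.inr (by rw [hP]; exact ENat.one_ne_top)⟩
  haveI : Q.FiniteHeight := Ideal.finiteHeight_of_le hQP (Ideal.IsPrime.ne_top ‹P.IsPrime›)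
  refine Ideal.eq_of_le_of_height_le Q hQP ?_
  rw [hP]
  exact Order.one_le_iff_ne_zero.mpr fun h => hQ0 (Ideal.height_eq_zero_iff_eq_bot.mp h)

/-- A height one prime not meeting the constants only in zero is extended. -/
theorem vertical_height_one (q : Ideal B) [q.IsPrime] (hq : q.height = 1)
    (h0 : q.comap (C : A →+* B) ≠ ⊥) :
    (q.comap (C : A →+* B)).height = 1 ∧ q = (q.comap (C : A →+* B)).map C := by
  set p := q.comap (C : A →+* B)
  haveI : (p.map (C : A →+* B)).IsPrime := isPrime_map_C p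
  have heq : p.map (C : A →+* B) = q :=
    eq_of_le_height_one inferInstance (map_C_ne_bot h0) Ideal.map_comap_le hq
  refine ⟨le_antisymm ?_ (Order.one_le_iff_ne_zero.mpr fun h => h0 (Ideal.height_eq_zero_iff_eq_bot.mp h)),
    heq.symm⟩
  refine (Ideal.height_le_iff (p := p) (n := 1)).mpr fun r hr hrp => ?_
  suffices r = ⊥ by rw [this, Ideal.height_bot]; exact zero_lt_one
  by_contra hr0
  haveI := hr
  have h1 : r.map (C : A →+* B) = q :=
    eq_of_le_height_one (isPrime_map_C r) (map_C_ne_bot hr0) ((Ideal.map_mono hrp.le).trans heq.le) hq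
  exact hrp.ne (by rw [← comap_map_C (σ := σ) r, h1])

variable [IsNoetherianRing A]

/-- The extension of a height one prime has height one. -/
theorem height_map_C [Finite σ] (p : Ideal A) [p.IsPrime] (hp : p.height = 1) :
    (p.map (C : A →+* B)).height = 1 := by
  haveI := isPrime_map_C (σ := σ) p
  obtain ⟨a, ha, ha0⟩ := Submodule.exists_mem_ne_zero_of_ne_bot
    (fun h : p = ⊥ => by rw [h, Ideal.height_bot] at hp; exact zero_ne_one hp)
  have hCa : (C a : B) ≠ 0 := fun h => ha0 (C_injective σ A (by rw [h, map_zero]))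
  refine le_antisymm ?_ (Order.one_le_iff_ne_zero.mpr fun h =>
    hCa ((Submodule.mem_bot B).mp (Ideal.height_eq_zero_iff_eq_bot.mp h ▸ Ideal.mem_map_of_mem _ ha)))
  refine Ideal.height_le_one_of_isPrincipal_of_mem_minimalPrimes (Ideal.span {(C a : B)}) _
    ⟨⟨inferInstance, (Ideal.span_singleton_le_iff_mem _).mpr (Ideal.mem_map_of_mem _ ha)⟩, fun r hr hle => ?_⟩
  haveI := hr.1
  have hne : r.comap (C : A →+* B) ≠ ⊥ := fun h => ha0 (by
    have : a ∈ r.comap (C : A →+* B) := hr.2 (Ideal.mem_span_singleton_self _)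
    rwa [h] at this)
  have : r.comap (C : A →+* B) = p := eq_of_le_height_one inferInstance hne
    ((Ideal.comap_mono hle).trans (comap_map_C p).le) hp
  rw [← this]
  exact Ideal.map_comap_le

section Horizontal

variable [Finite σ]

attribute [local instance] MvPolynomial.algebraMvPolynomial

local notation "K" => FractionRing A
local notation "BK" => MvPolynomial σ (FractionRing A)
local notation "ι" => algebraMap (MvPolynomial σ A) (MvPolynomial σ (FractionRing A))

omit [IsNoetherianRing A] [Finite σ] in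
theorem exists_C_mul (x : BK) : ∃ (s : A) (y : B), s ≠ 0 ∧ x * ι (C s) = ι y := by
  obtain ⟨⟨y, t⟩, e⟩ := IsLocalization.surj ((nonZeroDivisors A).map (C (σ := σ))) x
  obtain ⟨s, hs, hst⟩ := Submonoid.mem_map.mp t.2
  exact ⟨s, y, nonZeroDivisors.ne_zero hs, by rw [hst]; exact e⟩

omit [IsNoetherianRing A] [Finite σ] in
theorem ι_injective : Function.Injective ι :=
  MvPolynomial.map_injective _ (IsFractionRing.injective A K)

omit [IsNoetherianRing A] [Finite σ] in
theorem disjoint_of_comap_bot {q : Ideal B} (h0 : q.comap (C : A →+* B) = ⊥) :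
    Disjoint (((nonZeroDivisors A).map (C (σ := σ)) : Submonoid B) : Set B) (q : Set B) := by
  rw [Set.disjoint_left]
  rintro _ ⟨s, hs, rfl⟩ hsq
  exact nonZeroDivisors.ne_zero hs (by
    have : s ∈ q.comap (C : A →+* B) := hsq
    rwa [h0] at this)

omit [IsNoetherianRing A] [Finite σ] in
theorem isUnit_ι_C {s : A} (hs : s ≠ 0) : IsUnit (ι (C s)) :=
  IsLocalization.map_units BK
    (⟨C s, s, mem_nonZeroDivisors_of_ne_zero hs, rfl⟩ : (nonZeroDivisors A).map (C (σ := σ)))

omit [IsNoetherianRing A] [Finite σ] in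
theorem ι_dvd_ι {g x : B} (h : ι g ∣ ι x) : ∃ s : A, s ≠ 0 ∧ g ∣ C s * x := by
  obtain ⟨r, hr⟩ := h
  obtain ⟨s, y, hs, hy⟩ := exists_C_mul r
  exact ⟨s, hs, y, ι_injective (by rw [map_mul, map_mul, ← hy, hr]; ring)⟩

/-- A horizontal height one prime is generated by one element away from the constants. -/
theorem exists_gen (q : Ideal B) [q.IsPrime] (hq : q.height = 1) (h0 : q.comap (C : A →+* B) = ⊥) :
    ∃ g ∈ q, (∀ q' : Ideal B, q'.IsPrime → q'.height = 1 → q'.comap (C : A →+* B) = ⊥ → g ∈ q' → q' = q) ∧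
      ∀ x ∈ q, ∃ s, s ∉ q ∧ g ∣ s * x := by
  set M := (nonZeroDivisors A).map (C (σ := σ))
  have hd := disjoint_of_comap_bot h0
  haveI : (q.map ι).IsPrime := IsLocalization.isPrime_of_isPrime_disjoint M BK q inferInstance hd
  obtain ⟨π, hπ, hspan⟩ := DivX.exists_prime_span_of_height_one (q.map ι)
    (by rw [IsLocalization.height_map_of_disjoint M q hd, hq])
  obtain ⟨s, g, hs, hg⟩ := exists_C_mul π
  have hu := isUnit_ι_C (σ := σ) hs
  have hgspan : q.map ι = Ideal.span {ι g} := by
    rw [hspan, ← hg, Ideal.span_singleton_eq_span_singleton]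
    exact (associated_mul_unit_left π _ hu).symm
  have hgq : g ∈ q := by
    have h1 : ι g ∈ q.map ι := hgspan ▸ Ideal.mem_span_singleton_self _
    rw [← IsLocalization.under_map_of_isPrime_disjoint M BK inferInstance hd]
    exact h1
  refine ⟨g, hgq, fun q' hq' hq'1 hq'0 hgq' => ?_, fun x hx => ?_⟩
  · haveI := hq'
    have hd' := disjoint_of_comap_bot hq'0
    have hle : q ≤ q' := by
      intro x hx
      rw [← IsLocalization.under_map_of_isPrime_disjoint M BK hq' hd']
      have : ι x ∈ Ideal.span {ι g} := hgspan ▸ Ideal.mem_map_of_mem _ hx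
      exact (Ideal.span_singleton_le_iff_mem _).mpr (Ideal.mem_map_of_mem _ hgq') this
    exact (eq_of_le_height_one inferInstance (fun h => by rw [h, Ideal.height_bot] at hq; exact zero_ne_one hq)
      hle hq'1).symm
  · have : ι g ∣ ι x := Ideal.mem_span_singleton.mp (hgspan ▸ Ideal.mem_map_of_mem _ hx)
    obtain ⟨s, hs, hdvd⟩ := ι_dvd_ι this
    refine ⟨C s, fun hsq => hs ?_, hdvd⟩
    have : s ∈ q.comap (C : A →+* B) := hsq
    rwa [h0] at this

theorem exists_prime_of_irreducible {π : BK} (hπ : Prime π) :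
    ∃ q : Ideal B, q.IsPrime ∧ q.height = 1 ∧ q.comap (C : A →+* B) = ⊥ ∧
      ∀ x : B, (x ∈ q ↔ π ∣ ι x) := by
  haveI : (Ideal.span {π}).IsPrime := (Ideal.span_singleton_prime hπ.ne_zero).mpr hπ
  refine ⟨(Ideal.span {π}).comap ι, inferInstance, ?_, ?_, fun x => Ideal.mem_span_singleton⟩
  · rw [show (Ideal.span {π}).comap ι = (Ideal.span {π}).under B from rfl,
      IsLocalization.height_under ((nonZeroDivisors A).map (C (σ := σ)))]
    refine le_antisymm (Ideal.height_le_one_of_isPrincipal_of_mem_minimalPrimes (Ideal.span {π}) _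
      (by rw [Ideal.minimalPrimes_eq_subsingleton_self]; rfl)) ?_
    refine Order.one_le_iff_ne_zero.mpr fun h => hπ.ne_zero ?_
    exact Ideal.span_singleton_eq_bot.mp (Ideal.height_eq_zero_iff_eq_bot.mp h)
  · refine le_bot_iff.mp fun s hs => ?_
    by_contra hs0
    exact hπ.not_unit (isUnit_of_dvd_unit (Ideal.mem_span_singleton.mp hs) (isUnit_ι_C hs0))

theorem eq_const_of_forall_notMem {a : B} (ha : a ≠ 0)
    (h : ∀ q : Ideal B, q.IsPrime → q.height = 1 → q.comap (C : A →+* B) = ⊥ → a ∉ q) :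
    ∃ s α : A, s ≠ 0 ∧ α ≠ 0 ∧ C s * a = C α := by
  have ha' : ι a ≠ 0 := fun e => ha (ι_injective (by rw [e, map_zero]))
  have hu : IsUnit (ι a) := by
    by_contra hu
    obtain ⟨π, hπ, hdvd⟩ := WfDvdMonoid.exists_irreducible_factor hu ha'
    obtain ⟨q, hq1, hq2, hq3, hq4⟩ := exists_prime_of_irreducible (σ := σ) (A := A) hπ.prime
    exact h q hq1 hq2 hq3 ((hq4 a).mpr hdvd)
  obtain ⟨c, hc, e⟩ := MvPolynomial.isUnit_iff_eq_C_of_isReduced.mp hu
  obtain ⟨α, s, hs, rfl⟩ := IsFractionRing.div_surjective (A := A) c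
  have hs0 := nonZeroDivisors.ne_zero hs
  refine ⟨s, α, hs0, fun hα => ha' (by rw [e, hα, map_zero, zero_div, map_zero]), ι_injective ?_⟩
  rw [map_mul, e]
  show MvPolynomial.map _ (C s) * _ = MvPolynomial.map _ (C α)
  rw [MvPolynomial.map_C, MvPolynomial.map_C, ← map_mul, mul_div_cancel₀ _ ?_]
  exact (map_ne_zero_iff _ (IsFractionRing.injective A K)).mpr hs0

/-- Fractions can be written without common horizontal divisor. -/
theorem exists_coprime_rep {a b : B} (ha : a ≠ 0) (hb : b ≠ 0) :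
    ∃ a' b' : B, a' ≠ 0 ∧ b' ≠ 0 ∧ a * b' = a' * b ∧
      ∀ q : Ideal B, q.IsPrime → q.height = 1 → q.comap (C : A →+* B) = ⊥ → a' ∈ q → b' ∉ q := by
  have hι : ∀ {x : B}, x ≠ 0 → ι x ≠ 0 := fun hx e => hx (ι_injective (by rw [e, map_zero]))
  obtain ⟨x, y, z, hxy, hz, hz'⟩ := UniqueFactorizationMonoid.exists_reduced_factors (ι a) (hι ha) (ι b)
  obtain ⟨s, x', hs, hx'⟩ := exists_C_mul x
  obtain ⟨t, y', ht, hy'⟩ := exists_C_mul y
  have hz0 : z ≠ 0 := left_ne_zero_of_mul (hz.symm ▸ hι ha : z * x ≠ 0)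
  refine ⟨x' * C t, y' * C s, ?_, ?_, ?_, ?_⟩
  · intro e
    have := congrArg ι e
    rw [map_mul, ← hx', map_zero] at this
    simp only [mul_eq_zero] at this
    rcases this with (h1 | h1) | h1
    · exact hι ha (by rw [← hz, h1, mul_zero])
    · exact (isUnit_ι_C hs).ne_zero h1
    · exact (isUnit_ι_C ht).ne_zero h1
  · intro e
    have := congrArg ι e
    rw [map_mul, ← hy', map_zero] at this
    simp only [mul_eq_zero] at this
    rcases this with (h1 | h1) | h1
    · exact hι hb (by rw [← hz', h1, mul_zero])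
    · exact (isUnit_ι_C ht).ne_zero h1
    · exact (isUnit_ι_C hs).ne_zero h1
  · refine ι_injective ?_
    rw [map_mul, map_mul, map_mul, map_mul, ← hx', ← hy', ← hz, ← hz']
    ring
  · intro q hq hq1 hq0 hxq hyq
    haveI := hq
    have hd := disjoint_of_comap_bot hq0
    haveI : (q.map ι).IsPrime :=
      IsLocalization.isPrime_of_isPrime_disjoint ((nonZeroDivisors A).map (C (σ := σ))) BK q hq hd
    obtain ⟨π, hπ, hspan⟩ := DivX.exists_prime_span_of_height_one (q.map ι)
      (by rw [IsLocalization.height_map_of_disjoint ((nonZeroDivisors A).map (C (σ := σ))) q hd, hq1])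
    have h1 : π ∣ x := by
      have h2 := Ideal.mem_span_singleton.mp (hspan ▸ Ideal.mem_map_of_mem ι hxq : ι (x' * C t) ∈ _)
      rw [map_mul, ← hx'] at h2
      exact ((isUnit_ι_C hs).dvd_mul_right).mp (((isUnit_ι_C ht).dvd_mul_right).mp h2)
    have h2 : π ∣ y := by
      have h2 := Ideal.mem_span_singleton.mp (hspan ▸ Ideal.mem_map_of_mem ι hyq : ι (y' * C s) ∈ _)
      rw [map_mul, ← hy'] at h2
      exact ((isUnit_ι_C ht).dvd_mul_right).mp (((isUnit_ι_C hs).dvd_mul_right).mp h2)
    exact hπ.not_unit (hxy h1 h2)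

end Horizontal

end Groth.Agent.WDivX
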