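import Groth.Agent.WDivX.SpecOrd
import Groth.Agent.WDivX.PolyHeight
import Groth.Agent.UnivOpen.UnibranchAlg
import Mathlib.AlgebraicGeometry.AffineSpace

/-!
# Divisors on affine spaces over an integral scheme
-/

universe u

open AlgebraicGeometry CategoryTheory TopologicalSpace IsLocalRing Limits

set_option backward.isDefEq.respectTransparency false

namespace Groth.Agent.WDivX

/-- Locally on the base a polynomial scheme. -/
def IsPolyOver (σ : Type u) {P X : Scheme.{u}} (f : P ⟶ X) : Prop :=
  ∀ y : X, ∃ (A : CommRingCat.{u}) (j : Spec A ⟶ X)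
    (J : Spec (CommRingCat.of (MvPolynomial σ A)) ⟶ P), IsOpenImmersion j ∧ IsOpenImmersion J ∧
      Spec.map (CommRingCat.ofHom MvPolynomial.C) ≫ j = J ≫ f ∧
      y ∈ Set.range j ∧ Set.range J = f ⁻¹' Set.range j

theorem isPolyOver_affineSpace (σ : Type u) (X : Scheme.{u}) : IsPolyOver σ (𝔸(σ; X) ↘ X) := by
  intro y
  obtain ⟨V, hV, hyV, -⟩ := exists_isAffineOpen_mem_and_subset (x := y) (U := ⊤) trivial
  haveI := hV.isOpenImmersion_fromSpec
  have hpb := AffineSpace.isPullback_map (n := σ) hV.fromSpec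
  haveI : IsOpenImmersion (AffineSpace.map σ hV.fromSpec) :=
    MorphismProperty.of_isPullback (P := @IsOpenImmersion) hpb.flip inferInstance
  refine ⟨Γ(X, V), hV.fromSpec, (AffineSpace.SpecIso σ Γ(X, V)).inv ≫ AffineSpace.map σ hV.fromSpec,
    inferInstance, inferInstance, ?_, by rwa [hV.range_fromSpec], ?_⟩
  · rw [Category.assoc, AffineSpace.map_over, AffineSpace.SpecIso_inv_over_assoc]
  · rw [← hpb.isoPullback_hom_fst, ← Category.assoc, Scheme.Hom.comp_base, TopCat.coe_comp, Set.range_comp,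
      Set.range_eq_univ.mpr (Scheme.Hom.surjective _), Set.image_univ, Scheme.Pullback.range_fst]

section Facts

variable {σ : Type u} {P X : Scheme.{u}} {f : P ⟶ X} [IsIntegral P] [IsIntegral X]

theorem map_maximalIdeal_congr {Y Z : Scheme.{u}} {g g' : Y ⟶ Z} (e : g = g') (z : Y)
    (h : (maximalIdeal (Z.presheaf.stalk (g z))).map (g.stalkMap z).hom = maximalIdeal (Y.presheaf.stalk z)) :
    (maximalIdeal (Z.presheaf.stalk (g' z))).map (g'.stalkMap z).hom = maximalIdeal (Y.presheaf.stalk z) := by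
  subst e; exact h

theorem map_maximalIdeal_of_isIso {Y Z : Scheme.{u}} (g : Y ⟶ Z) (z : Y) [IsIso (g.stalkMap z)] :
    (maximalIdeal (Z.presheaf.stalk (g z))).map (g.stalkMap z).hom = maximalIdeal (Y.presheaf.stalk z) := by
  haveI : ((maximalIdeal (Z.presheaf.stalk (g z))).map (g.stalkMap z).hom).IsMaximal :=
    Ideal.IsMaximal.map_bijective (g.stalkMap z).hom (ConcreteCategory.bijective_of_isIso (g.stalkMap z))
      (maximalIdeal.isMaximal _)
  exact eq_maximalIdeal this

section Chart

variable {A : CommRingCat.{u}} {j : Spec A ⟶ X} {J : Spec (CommRingCat.of (MvPolynomial σ A)) ⟶ P}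
  [IsOpenImmersion j] [IsOpenImmersion J]

omit [IsIntegral P] in
theorem chart_domain (j : Spec A ⟶ X) [IsOpenImmersion j] (y : Spec A) : IsDomain A := by
  haveI : Nonempty (Spec A) := ⟨y⟩
  haveI := isIntegral_of_isOpenImmersion j
  exact (affine_isIntegral_iff A).mp inferInstance

omit [IsIntegral P] [IsIntegral X] in
theorem chart_noetherian (j : Spec A ⟶ X) [IsOpenImmersion j] [IsLocallyNoetherian X] : IsNoetherianRing A := by
  haveI := isLocallyNoetherian_of_isOpenImmersion j
  exact isLocallyNoetherian_Spec.mp inferInstance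

theorem over_generic_iff [IsDomain A] (comm : Spec.map (CommRingCat.ofHom MvPolynomial.C) ≫ j = J ≫ f)
    (q : Spec (CommRingCat.of (MvPolynomial σ A))) :
    f (J q) = genericPoint X ↔ q.asIdeal.comap (MvPolynomial.C : A →+* _) = ⊥ := by
  rw [← Scheme.Hom.comp_apply, ← comm, Scheme.Hom.comp_apply, ← genericPoint_eq_of_isOpenImmersion j]
  constructor
  · intro h
    have h' := j.isOpenEmbedding.injective h
    rw [genericPoint_eq_bot_of_affine] at h'
    exact congrArg PrimeSpectrum.asIdeal h'
  · intro h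
    congr 1
    rw [genericPoint_eq_bot_of_affine]
    exact PrimeSpectrum.ext h

omit [IsIntegral P] [IsIntegral X] in
theorem coheight_chart (J : Spec (CommRingCat.of (MvPolynomial σ A)) ⟶ P) [IsOpenImmersion J]
    (q : Spec (CommRingCat.of (MvPolynomial σ A))) : Order.coheight (J q) = q.asIdeal.height := by
  rw [idealHeight_eq_coheight]
  exact coheight_eq_of_isOpenImmersion J

omit [IsIntegral P] [IsIntegral X] in
theorem coheight_base (j : Spec A ⟶ X) [IsOpenImmersion j] (p : Spec A) :
    Order.coheight (j p) = p.asIdeal.height := by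
  rw [idealHeight_eq_coheight]
  exact coheight_eq_of_isOpenImmersion j

end Chart

variable [IsLocallyNoetherian P] [IsLocallyNoetherian X] [Finite σ] (hf : IsPolyOver σ f)

include hf

omit [IsLocallyNoetherian P] [Finite σ] in
theorem vertical (x : P) (hx : Order.coheight x = 1) (hx' : f x ≠ genericPoint X) :
    Order.coheight (f x) = 1 ∧ (∀ z, f z = f x → x ⤳ z) ∧
      (maximalIdeal (X.presheaf.stalk (f x))).map (f.stalkMap x).hom = maximalIdeal (P.presheaf.stalk x) := by
  obtain ⟨A, j, J, hj, hJ, comm, hy, hrange⟩ := hf (f x)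
  obtain ⟨q, rfl⟩ : x ∈ Set.range J := hrange ▸ hy
  haveI := chart_domain j ((Spec.map (CommRingCat.ofHom MvPolynomial.C)) q)
  haveI := chart_noetherian j
  rw [coheight_chart J q] at hx
  obtain ⟨h1, h2⟩ := vertical_height_one q.asIdeal hx (fun h => hx' ((over_generic_iff comm q).mpr h))
  have hfq : j ((Spec.map (CommRingCat.ofHom MvPolynomial.C)) q) = f (J q) := by
    rw [← Scheme.Hom.comp_apply, comm, Scheme.Hom.comp_apply]
  refine ⟨?_, fun z hz => ?_, ?_⟩
  · rw [← hfq, coheight_base]
    exact h1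
  · obtain ⟨q', rfl⟩ : z ∈ Set.range J := hrange ▸ (show f z ∈ Set.range j from hz ▸ hy)
    rw [← hfq, ← Scheme.Hom.comp_apply J f, ← comm, Scheme.Hom.comp_apply] at hz
    have hz' := congrArg PrimeSpectrum.asIdeal (j.isOpenEmbedding.injective hz)
    refine Specializes.map ((PrimeSpectrum.le_iff_specializes q q').mp ?_) J.continuous
    change q.asIdeal ≤ q'.asIdeal
    rw [h2]
    refine Ideal.map_le_iff_le_comap.mpr ?_
    exact le_of_eq (by exact hz'.symm)
  · have hC : (maximalIdeal ((Spec A).presheaf.stalk _)).map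
        ((Spec.map (CommRingCat.ofHom (MvPolynomial.C : A →+* MvPolynomial σ A))).stalkMap q).hom =
          maximalIdeal _ := by
      rw [maximalIdeal_stalk, maximalIdeal_stalk, Ideal.map_map]
      have he : ((Spec.map (CommRingCat.ofHom (MvPolynomial.C : A →+* MvPolynomial σ A))).stalkMap q).hom.comp
          (gS _) = (gS q).comp (MvPolynomial.C : A →+* MvPolynomial σ A) := RingHom.ext fun r => stalkMap_gS _ q r
      rw [he, ← Ideal.map_map]
      exact congrArg (Ideal.map (gS q)) h2.symm
    have h3 : (maximalIdeal (X.presheaf.stalk _)).map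
        ((Spec.map (CommRingCat.ofHom MvPolynomial.C) ≫ j).stalkMap q).hom = maximalIdeal _ := by
      rw [Scheme.Hom.stalkMap_comp, CommRingCat.hom_comp, ← Ideal.map_map]
      erw [map_maximalIdeal_of_isIso j]
      exact hC
    have h4 := map_maximalIdeal_congr comm q h3
    rw [Scheme.Hom.stalkMap_comp, CommRingCat.hom_comp, ← Ideal.map_map] at h4
    have hb := ConcreteCategory.bijective_of_isIso (J.stalkMap q)
    calc (maximalIdeal (X.presheaf.stalk (f (J q)))).map (f.stalkMap (J q)).hom
        = (((maximalIdeal (X.presheaf.stalk (f (J q)))).map (f.stalkMap (J q)).hom).map (J.stalkMap q).hom).comap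
            (J.stalkMap q).hom := (Ideal.comap_map_of_bijective _ hb).symm
      _ = (maximalIdeal _).comap (J.stalkMap q).hom := congrArg _ h4
      _ = maximalIdeal (P.presheaf.stalk (J q)) := by
          rw [← map_maximalIdeal_of_isIso J q, Ideal.comap_map_of_bijective _ hb]

omit [IsLocallyNoetherian P] in
theorem exists_over (y : X) (hy : Order.coheight y = 1) : ∃ x : P, Order.coheight x = 1 ∧ f x = y := by
  obtain ⟨A, j, J, hj, hJ, comm, ⟨p, rfl⟩, -⟩ := hf y
  haveI := chart_domain j p
  haveI := chart_noetherian j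
  rw [coheight_base] at hy
  haveI := isPrime_map_C (σ := σ) p.asIdeal
  let q : Spec (CommRingCat.of (MvPolynomial σ A)) := ⟨p.asIdeal.map MvPolynomial.C, inferInstance⟩
  refine ⟨J q, by rw [coheight_chart]; exact height_map_C p.asIdeal hy, ?_⟩
  rw [← Scheme.Hom.comp_apply, ← comm, Scheme.Hom.comp_apply]
  congr 1
  exact PrimeSpectrum.ext (comap_map_C p.asIdeal)

/-- A function with a simple zero at one horizontal divisor and at no other. -/
theorem exists_hor_gen (x : P) (hx : Order.coheight x = 1) (hx' : f x = genericPoint X) :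
    ∃ g : P.functionField, g ≠ 0 ∧ Scheme.ord g x = 1 ∧
      ∀ z : P, Order.coheight z = 1 → f z = genericPoint X → z ≠ x → Scheme.ord g z = 0 := by
  obtain ⟨A, j, J, hj, hJ, comm, hy, hrange⟩ := hf (genericPoint X)
  obtain ⟨p₀, -⟩ := hy
  haveI := chart_domain j p₀
  haveI := chart_noetherian j
  have hmem : ∀ z : P, f z = genericPoint X → z ∈ Set.range J := fun z hz => by
    rw [hrange, Set.mem_preimage, hz]
    exact ⟨_, genericPoint_eq_of_isOpenImmersion j⟩
  obtain ⟨q, rfl⟩ := hmem x hx'
  rw [coheight_chart] at hx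
  obtain ⟨g, hgq, huniq, hgen⟩ := exists_gen q.asIdeal hx ((over_generic_iff comm q).mp hx')
  have hg0 : g ≠ 0 := by
    rintro rfl
    refine Ideal.ne_bot_of_height_eq_one hx (le_bot_iff.mp fun x hx => ?_)
    obtain ⟨s, hs, hd⟩ := hgen x hx
    rw [Ideal.mem_bot]
    exact (mul_eq_zero.mp (zero_dvd_iff.mp hd)).resolve_left fun h => hs (h ▸ q.asIdeal.zero_mem)
  obtain ⟨G, hG⟩ := (ffMap_bijective J).2 (rat g)
  have hG0 : G ≠ 0 := fun h => rat_ne_zero hg0 (by rw [← hG, h, map_zero])
  refine ⟨G, hG0, ?_, fun z hz hz' hne => ?_⟩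
  · rw [← ord_ffMap J G q, hG]
    exact ord_rat_generator (by rw [← idealHeight_eq_coheight]; exact hx) hgq hgen
  · obtain ⟨q', rfl⟩ := hmem z hz'
    rw [← ord_ffMap J G q', hG]
    refine ord_rat_eq_zero fun h => hne ?_
    rw [coheight_chart] at hz
    exact congrArg J (PrimeSpectrum.ext (huniq q'.asIdeal q'.isPrime hz ((over_generic_iff comm q').mp hz') h))

/-- Any finite divisor can be cancelled over the generic point. -/
theorem exists_hor (D : P → ℤ) (hD : {x | D x ≠ 0}.Finite) :
    ∃ g : P.functionField, g ≠ 0 ∧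
      ∀ x : P, Order.coheight x = 1 → f x = genericPoint X → Scheme.ord g x = D x := by
  classical
  set s := hD.toFinset.filter fun x => Order.coheight x = 1 ∧ f x = genericPoint X with hs
  have hgen : ∀ x : s, _ := fun x => exists_hor_gen hf x.1 (Finset.mem_filter.mp x.2).2.1 (Finset.mem_filter.mp x.2).2.2
  choose G hG0 hG1 hG2 using hgen
  refine ⟨∏ x : s, G x ^ D x.1, Finset.prod_ne_zero_iff.mpr fun x _ => zpow_ne_zero _ (hG0 x), fun z hz hz' => ?_⟩
  rw [ord_prod _ _ (fun x _ => zpow_ne_zero _ (hG0 x))]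
  simp only [ord_zpow (hG0 _)]
  by_cases hzs : z ∈ s
  · rw [Finset.sum_eq_single ⟨z, hzs⟩ (fun x _ hne => ?_) (fun h => absurd (Finset.mem_univ _) h), hG1, mul_one]
    rw [hG2 x z hz hz' fun h => hne (Subtype.ext h.symm), mul_zero]
  · rw [Finset.sum_eq_zero fun x _ => ?_]
    · by_contra h
      exact hzs (Finset.mem_filter.mpr ⟨hD.mem_toFinset.mpr fun h' => h h'.symm, hz, hz'⟩)
    · rw [hG2 x z hz hz' fun h => hzs (by rw [h]; exact x.2), mul_zero]

/-- A rational function without horizontal zeros or poles comes from the base. -/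
theorem exists_const_of_ord (h0 : f (genericPoint P) = genericPoint X) {G : P.functionField} (hG : G ≠ 0)
    (h : ∀ x : P, Order.coheight x = 1 → f x = genericPoint X → Scheme.ord G x = 0) :
    ∃ c : X.functionField, c ≠ 0 ∧ G = pullFF f h0 c := by
  obtain ⟨A, j, J, hj, hJ, comm, hy, hrange⟩ := hf (genericPoint X)
  obtain ⟨p₀, -⟩ := hy
  haveI := chart_domain j p₀
  haveI := chart_noetherian j
  obtain ⟨a, b, hb, hab⟩ := exists_rat_div ((ffMap J).hom G)
  have ha : a ≠ 0 := by
    rintro rfl
    rw [map_zero, zero_div, map_eq_zero] at hab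
    exact hG hab
  obtain ⟨a', b', ha', hb', e, hco⟩ := exists_coprime_rep (σ := σ) (A := A) ha hb
  have hab' : (ffMap J).hom G = rat a' / rat b' := by
    rw [hab, div_eq_div_iff (rat_ne_zero hb) (rat_ne_zero hb'), ← map_mul, ← map_mul, e]
  have hord : ∀ (q : Ideal (MvPolynomial σ A)) (hq : q.IsPrime), q.height = 1 →
      q.comap (MvPolynomial.C : A →+* _) = ⊥ → a' ∉ q ∧ b' ∉ q := by
    intro q hq hq1 hq0
    let Q : Spec (CommRingCat.of (MvPolynomial σ A)) := ⟨q, hq⟩
    have hQ1 : Order.coheight Q = 1 := by rw [← idealHeight_eq_coheight]; exact hq1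
    have hz := h (J Q) (by rw [coheight_chart]; exact hq1) ((over_generic_iff comm Q).mpr hq0)
    rw [← ord_ffMap J G Q, hab', ord_div (rat_ne_zero ha') (rat_ne_zero hb')] at hz
    obtain ⟨g, hgq, -, hgen⟩ := exists_gen q hq1 hq0
    have hmax : maximalIdeal ((Spec (CommRingCat.of (MvPolynomial σ A))).presheaf.stalk Q) =
        Ideal.span {gS Q g} := by
      refine le_antisymm ?_ ?_
      · rw [maximalIdeal_stalk, Ideal.map_le_iff_le_comap]
        intro x hx
        obtain ⟨s, hs, c, hc⟩ := hgen x hx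
        refine Ideal.mem_span_singleton.mpr (((isUnit_gS_iff Q s).mpr hs).dvd_mul_left.mp ?_)
        exact ⟨gS Q c, by rw [← map_mul, ← map_mul, hc]⟩
      · rw [Ideal.span_le, Set.singleton_subset_iff, maximalIdeal_stalk]
        exact Ideal.mem_map_of_mem _ hgq
    haveI := (isDVR_of_maximalIdeal_eq_span hQ1 hmax).1
    have hea : ∀ x : MvPolynomial σ A, x ≠ 0 → x ∈ q → 1 ≤ Scheme.ord (rat x) Q := fun x hx hm => ord_rat_pos hQ1 hx hm
    have hna : a' ∉ q := fun hm => by
      have h1 := hea a' ha' hm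
      rw [ord_rat_eq_zero (q := Q) (hco q hq hq1 hq0 hm)] at hz
      omega
    refine ⟨hna, fun hm => ?_⟩
    have h1 := hea b' hb' hm
    rw [ord_rat_eq_zero (q := Q) hna] at hz
    omega
  obtain ⟨s, α, hs, hα, ea⟩ := eq_const_of_forall_notMem ha' fun q h1 h2 h3 => (hord q h1 h2 h3).1
  obtain ⟨t, β, ht, hβ, eb⟩ := eq_const_of_forall_notMem hb' fun q h1 h2 h3 => (hord q h1 h2 h3).2
  obtain ⟨c, hc⟩ := (ffMap_bijective j).2 (rat (α * t) / rat (s * β))
  have hCη : (Spec.map (CommRingCat.ofHom (MvPolynomial.C : A →+* MvPolynomial σ A)))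
      (genericPoint (Spec (CommRingCat.of (MvPolynomial σ A)))) = genericPoint (Spec A) := by
    refine j.isOpenEmbedding.injective ?_
    show (Spec.map (CommRingCat.ofHom (MvPolynomial.C : A →+* MvPolynomial σ A)) ≫ j) _ = _
    rw [comm, Scheme.Hom.comp_apply, genericPoint_eq_of_isOpenImmersion J, h0,
      genericPoint_eq_of_isOpenImmersion j]
  have hc' : (ffMap J).hom (pullFF f h0 c) = (ffMap J).hom G := by
    have hcomp : (J ≫ f) (genericPoint (Spec (CommRingCat.of (MvPolynomial σ A)))) = genericPoint X := by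
      rw [Scheme.Hom.comp_apply, genericPoint_eq_of_isOpenImmersion J, h0]
    rw [ffMap_eq_pullFF, ← RingHom.comp_apply, ← pullFF_comp J f _ _ hcomp, pullFF_congr comm.symm,
      pullFF_comp _ j hCη (genericPoint_eq_of_isOpenImmersion j), RingHom.comp_apply,
      ← ffMap_eq_pullFF j, hc, ← ffMap_eq_pullFF J, hab', map_div₀]
    erw [pullFF_rat, pullFF_rat]
    have hsb : (MvPolynomial.C (s * β) : MvPolynomial σ A) ≠ 0 :=
      fun h => mul_ne_zero hs hβ (MvPolynomial.C_injective σ A (by rw [h, map_zero]))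
    refine (div_eq_div_iff (rat_ne_zero hsb) (rat_ne_zero hb')).mpr ?_
    refine ((map_mul rat _ _).symm.trans ?_).trans (map_mul rat _ _)
    · congr 1
      change MvPolynomial.C (α * t) * b' = a' * MvPolynomial.C (s * β)
      rw [map_mul, map_mul]
      linear_combination (MvPolynomial.C (α : A)) * eb - (MvPolynomial.C (β : A)) * ea
  have := (ffMap_bijective J).1 hc'
  exact ⟨c, fun h => hG (by rw [← this, h, map_zero]), this.symm⟩

omit [IsLocallyNoetherian P] [Finite σ] [IsLocallyNoetherian X] in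
theorem isNormal (hX : Pi1.IsNormalScheme X) : Pi1.IsNormalScheme P := by
  intro x
  refine ⟨inferInstance, ?_⟩
  obtain ⟨A, j, J, hj, hJ, comm, hy, hrange⟩ := hf (f x)
  obtain ⟨q, rfl⟩ : x ∈ Set.range J := hrange ▸ hy
  haveI := chart_domain j ((Spec.map (CommRingCat.ofHom MvPolynomial.C)) q)
  haveI : IsIntegrallyClosed A := by
    refine IsIntegrallyClosed.of_localization_maximal fun m _ _ => ?_
    haveI := (hX (j ⟨m, inferInstance⟩)).2
    exact IsIntegrallyClosed.of_equiv ((asIso (j.stalkMap ⟨m, inferInstance⟩)).commRingCatIsoToRingEquiv.trans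
      (Spec.stalkIso A ⟨m, inferInstance⟩).commRingCatIsoToRingEquiv)
  haveI := UnivOpen.isIntegrallyClosed_mvPolynomial A σ
  haveI : IsIntegrallyClosed (Localization.AtPrime q.asIdeal) :=
    isIntegrallyClosed_of_isLocalization _ q.asIdeal.primeCompl q.asIdeal.primeCompl_le_nonZeroDivisors
  exact IsIntegrallyClosed.of_equiv ((asIso (J.stalkMap q)).commRingCatIsoToRingEquiv.trans
      (Spec.stalkIso (CommRingCat.of (MvPolynomial σ A)) q).commRingCatIsoToRingEquiv).symm

end Facts

end Groth.Agent.WDivX
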