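import Groth.Agent.WDivX.SectionEval
import Groth.Agent.InvX.GenLocusPull

/-!
# Invertible modules on a normal scheme with a section over a normal base
-/

universe u

open AlgebraicGeometry CategoryTheory TopologicalSpace

set_option backward.isDefEq.respectTransparency false

namespace Groth.Agent.WDivX

open Groth.Agent.InvX Groth.Agent.AModX

variable {P Y : Scheme.{u}} [IsIntegral P] [IsIntegral Y] [IsLocallyNoetherian P] [IsLocallyNoetherian Y]
  [CompactSpace P] {f : P ⟶ Y} {s : Y ⟶ P} (hs : s ≫ f = 𝟙 Y)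
  (hP : Pi1.IsNormalScheme P) (hY : Pi1.IsNormalScheme Y)
  (hvert : ∀ z : P, Order.coheight z = 1 → f z ≠ genericPoint Y →
    Order.coheight (f z) = 1 ∧ (∀ w, f w = f z → z ⤳ w) ∧
      (IsLocalRing.maximalIdeal (Y.presheaf.stalk (f z))).map (f.stalkMap z).hom =
        IsLocalRing.maximalIdeal (P.presheaf.stalk z))
  (hhor : ∀ D : P → ℤ, {x | D x ≠ 0}.Finite → ∃ g : P.functionField, g ≠ 0 ∧
    ∀ x : P, Order.coheight x = 1 → f x = genericPoint Y → Scheme.ord g x = D x)

include hY in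
omit [IsIntegral P] [IsLocallyNoetherian P] [CompactSpace P] in
theorem exists_uniformizer (y : Y) (hy : Order.coheight y = 1) :
    ∃ p : Y.functionField, p ≠ 0 ∧ Scheme.ord p y = 1 := by
  haveI := CDiv6.isDVR_of_coheight_one hY hy
  obtain ⟨π, hπ⟩ := IsDiscreteValuationRing.exists_irreducible (Y.presheaf.stalk y)
  exact ⟨_, algebraMap_stalk_ne_zero hπ.ne_zero, ord_algebraMap_generator hy hπ.maximalIdeal_eq⟩

include hY hvert in
omit [CompactSpace P] in
theorem ord_pullFF_vertical {z : P} (hz : Order.coheight z = 1) (hz' : f z ≠ genericPoint Y)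
    {c : Y.functionField} (hc : c ≠ 0) :
    Scheme.ord (pullFF f (generic_eq hs) c) z = Scheme.ord c (f z) := by
  obtain ⟨h1, -, h3⟩ := hvert z hz hz'
  haveI := CDiv6.isDVR_of_coheight_one hY h1
  exact ord_pullFF f (generic_eq hs) hz h1 h3 hc

omit [CompactSpace P] in
theorem eq_of_specializes_of_coheight {X : Scheme.{u}} {a b : X} (h : a ⤳ b) (ha : Order.coheight a = 1)
    (hb : Order.coheight b = 1) : a = b := by
  by_contra hne
  have hlt : b < a := lt_iff_le_not_ge.mpr ⟨h, fun h' => hne (Specializes.antisymm h (h' : b ⤳ a)).eq⟩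
  have := Order.coheight_add_one_le hlt
  rw [ha, hb] at this
  exact absurd this (by decide)

include hs hP hY hvert in
omit [CompactSpace P] in
/-- The value along the section has the order of the vertical divisor. -/
theorem ord_ev_eq {h : P.functionField} (h0 : h ≠ 0) {c : Y.functionField} (hc : IsEv s h c)
    {z : P} (hz : Order.coheight z = 1) (hz' : f z ≠ genericPoint Y)
    (hhor' : ∀ w : P, w ⤳ s (f z) → Order.coheight w = 1 → f w = genericPoint Y → Scheme.ord h w = 0) :
    c ≠ 0 ∧ Scheme.ord c (f z) = Scheme.ord h z := by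
  obtain ⟨h1, h2, -⟩ := hvert z hz hz'
  obtain ⟨p, hp0, hp1⟩ := exists_uniformizer hY (f z) h1
  set n := Scheme.ord h z with hn
  have hπ0 : p ^ (-n) ≠ 0 := zpow_ne_zero _ hp0
  set G := h * pullFF f (generic_eq hs) (p ^ (-n)) with hG
  have hG0 : G ≠ 0 := mul_ne_zero h0 ((map_ne_zero _).mpr hπ0)
  have hGord : ∀ w : P, w ⤳ s (f z) → Order.coheight w = 1 → Scheme.ord G w = 0 := by
    intro w hw hw1
    rw [hG, Scheme.ord_mul h0 ((map_ne_zero _).mpr hπ0)]
    by_cases hwη : f w = genericPoint Y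
    · rw [hhor' w hw hw1 hwη, ord_pullFF_eq_zero f _ hwη hπ0, add_zero]
    · rw [ord_pullFF_vertical hs hY hvert hw1 hwη hπ0]
      obtain ⟨w1, w2, -⟩ := hvert w hw1 hwη
      have hfw : f w = f z := eq_of_specializes_of_coheight
        (by have := hw.map f.continuous; rwa [apply_section hs] at this) w1 h1
      obtain rfl : w = z := eq_of_specializes_of_coheight (w2 z hfw.symm) hw1 hz
      rw [ord_zpow hp0, hp1, hn]
      ring
  obtain ⟨v, hv, hvG⟩ := exists_unit_of_ord hP (s (f z)) hG0 hGord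
  have e1 : IsEv s G (c * p ^ (-n)) := hG ▸ hc.mul (isEv_const hs _)
  have e2 := isEv_stalk (s := s) (f z) v
  rw [hvG] at e2
  have e3 := e1.unique e2
  have hu : IsUnit ((s.stalkMap (f z)).hom v) := hv.map _
  have hne : algebraMap (Y.presheaf.stalk (f z)) Y.functionField ((s.stalkMap (f z)).hom v) ≠ 0 :=
    algebraMap_stalk_ne_zero hu.ne_zero
  have hc0 : c ≠ 0 := fun h => hne (by rw [← e3, h, zero_mul])
  refine ⟨hc0, ?_⟩
  have e4 := congrArg (fun t => Scheme.ord t (f z)) e3
  simp only [ord_algebraMap_of_isUnit hu, Scheme.ord_mul hc0 hπ0, ord_zpow hp0, hp1] at e4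
  omega

omit [IsIntegral P] [IsIntegral Y] [IsLocallyNoetherian P] [IsLocallyNoetherian Y] [CompactSpace P] in
theorem res_pullElt_pullElt {L : P.Modules} (f : P ⟶ Y) (s : Y ⟶ P) {U V T : P.Opens} (h : V ≤ U)
    (hT : T ≤ f ⁻¹ᵁ (s ⁻¹ᵁ V)) (x : Γ(L, U)) :
    res ((Scheme.Modules.pullback f).obj ((Scheme.Modules.pullback s).obj L)) hT
        (pullElt f (pullElt s (res L h x))) =
      res _ (hT.trans (f.preimage_mono (s.preimage_mono h))) (pullElt f (pullElt s x)) := by
  rw [← res_pullElt s h, ← res_pullElt f (s.preimage_mono h), res_res]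

variable {L : P.Modules} (hL : PicF.IsInvertible L)

include hs hP hY hvert hhor hL

/-- Frames over preimages of opens of the base, with coordinates differing by functions on the base. -/
theorem exists_base_frames :
    ∃ (U₀ : P.Opens) (_ : genericPoint P ∈ U₀) (e₀ : Γ(L, U₀)) (_ : IsFrame e₀) (g : P.functionField)
      (_ : g ≠ 0), ∀ y : Y, ∃ (N : Y.Opens) (_ : y ∈ N) (c : Y.functionField) (_ : c ≠ 0)
        (E : Γ(L, f ⁻¹ᵁ N)), IsFrame E ∧ HasCoord e₀ E (g * pullFF f (generic_eq hs) c) := by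
  classical
  choose U hxU e he using exists_frame hL
  obtain ⟨t, ht⟩ := (CompactSpace.isCompact_univ (X := P)).elim_finite_subcover (fun x => (U x : Set P))
    (fun x => (U x).isOpen) fun x _ => Set.mem_iUnion.mpr ⟨x, hxU x⟩
  have h₀ : genericPoint P ∈ U (genericPoint P) := hxU _
  have he₀ := he (genericPoint P)
  have hmem : ∀ x, genericPoint P ∈ U x := fun x => genericPoint_mem (hxU x)
  choose φ hφ using fun x => exists_hasCoord he₀ h₀ (hmem x) (e x)
  have hφ0 : ∀ x, φ x ≠ 0 := fun x => (hφ x).ne_zero he₀ h₀ (hmem x) (he x)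
  have hord : ∀ a b z, z ∈ U a → z ∈ U b → Scheme.ord (φ b) z = Scheme.ord (φ a) z := by
    intro a b z hza hzb
    have hW : genericPoint P ∈ U a ⊓ U b := ⟨hmem a, hmem b⟩
    obtain ⟨r, hr⟩ := (he a).exists_coord inf_le_left (res L (inf_le_right : U a ⊓ U b ≤ U b) (e b))
    obtain ⟨r', hr'⟩ := (he b).exists_coord inf_le_right (res L (inf_le_left : U a ⊓ U b ≤ U a) (e a))
    have hrr : r * r' = 1 := (he b).coord_unique inf_le_right (by rw [one_smul, mul_smul, ← hr', ← hr])
    have c1 := ((hφ a).res (inf_le_left : U a ⊓ U b ≤ U a)).smul he₀ hW r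
    rw [← hr] at c1
    rw [((hφ b).res inf_le_right).unique he₀ h₀ hW c1]
    haveI : Nonempty (U a ⊓ U b : P.Opens) := ⟨⟨_, hW⟩⟩
    have hru : IsUnit r := IsUnit.of_mul_eq_one r' hrr
    rw [Scheme.ord_mul (hru.map _).ne_zero (hφ0 a)]
    have : Scheme.ord (P.presheaf.germ (U a ⊓ U b) (genericPoint P) hW r) z = 0 :=
      Scheme.ord_of_isUnit (U := U a ⊓ U b) hru ⟨hza, hzb⟩
    rw [this, zero_add]
  let D : P → ℤ := fun x => Scheme.ord (φ x) x
  have hD : {x | D x ≠ 0}.Finite := by
    refine (t.finite_toSet.biUnion fun a _ => finite_ord (hφ0 a)).subset fun x hx => ?_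
    obtain ⟨a, ha, hxa⟩ := Set.mem_iUnion₂.mp (ht (Set.mem_univ x))
    refine Set.mem_iUnion₂.mpr ⟨a, ha, ?_⟩
    have : Scheme.ord (φ x) x = Scheme.ord (φ a) x := hord a x x hxa (hxU x)
    exact fun h => hx (this.trans h)
  obtain ⟨g, hg0, hg⟩ := hhor D hD
  refine ⟨U (genericPoint P), h₀, e (genericPoint P), he₀, g, hg0, fun y => ?_⟩
  set h := φ (s y) / g with hh
  have hh0 : h ≠ 0 := div_ne_zero (hφ0 _) hg0
  have hhhor : ∀ w : P, w ∈ U (s y) → Order.coheight w = 1 → f w = genericPoint Y → Scheme.ord h w = 0 := by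
    intro w hw hw1 hwη
    rw [hh, ord_div (hφ0 _) hg0, hg w hw1 hwη, ← hord (s y) w w hw (hxU w)]
    simp [D]
  have hη_sy : genericPoint Y ⤳ y := (genericPoint_spec Y).specializes trivial
  obtain ⟨c, hc⟩ : ∃ c, IsEv s h c := by
    obtain ⟨v, -, hv⟩ := exists_unit_of_ord hP (s (genericPoint Y)) hh0 fun w hw hw1 =>
      hhhor w ((hw.trans (hη_sy.map s.continuous)).mem_open (U (s y)).isOpen (hxU _)) hw1 (by
        have h1 : f w ⤳ genericPoint Y := by
          have := hw.map f.continuous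
          rwa [apply_section hs] at this
        exact (h1.antisymm ((genericPoint_spec Y).specializes trivial)).eq)
    exact ⟨_, v, hv, rfl⟩
  have hc0 : c ≠ 0 := by
    obtain ⟨v, hv, hvh⟩ := exists_unit_of_ord hP (s (genericPoint Y)) hh0 fun w hw hw1 =>
      hhhor w ((hw.trans (hη_sy.map s.continuous)).mem_open (U (s y)).isOpen (hxU _)) hw1 (by
        have h1 : f w ⤳ genericPoint Y := by
          have := hw.map f.continuous
          rwa [apply_section hs] at this
        exact (h1.antisymm ((genericPoint_spec Y).specializes trivial)).eq)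
    rw [hc.unique ⟨v, hvh, rfl⟩]
    exact (hv.map _).ne_zero
  set G := h / pullFF f (generic_eq hs) c with hGdef
  have hpc0 : pullFF f (generic_eq hs) c ≠ 0 := (map_ne_zero _).mpr hc0
  have hG0 : G ≠ 0 := div_ne_zero hh0 hpc0
  have hGord : ∀ z : P, z ⤳ s y → Order.coheight z = 1 → Scheme.ord G z = 0 := by
    intro z hz hz1
    rw [hGdef, ord_div hh0 hpc0]
    have hzU : z ∈ U (s y) := hz.mem_open (U (s y)).isOpen (hxU _)
    by_cases hzη : f z = genericPoint Y
    · rw [hhhor z hzU hz1 hzη, ord_pullFF_eq_zero f _ hzη hc0, sub_zero]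
    · rw [ord_pullFF_vertical hs hY hvert hz1 hzη hc0]
      have hfy : f z ⤳ y := by
        have := hz.map f.continuous
        rwa [apply_section hs] at this
      rw [(ord_ev_eq hs hP hY hvert hh0 hc hz1 hzη fun w hw hw1 hwη =>
        hhhor w ((hw.trans (hfy.map s.continuous)).mem_open (U (s y)).isOpen (hxU _)) hw1 hwη).2, sub_self]
  obtain ⟨v, hv, hvG⟩ := exists_unit_of_ord hP (s y) hG0 hGord
  obtain ⟨O, hOU, hyO, tG, htG, htG'⟩ := exists_section_of_unit hv (hxU (s y))
  rw [hvG] at htG'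
  let N : Y.Opens := s ⁻¹ᵁ O
  set γ := g * pullFF f (generic_eq hs) c with hγdef
  have hγ0 : γ ≠ 0 := mul_ne_zero hg0 hpc0
  have hDγ : ∀ z : P, Order.coheight z = 1 → f z ∈ N → Scheme.ord γ z = D z := by
    intro z hz1 hzN
    rw [hγdef, Scheme.ord_mul hg0 hpc0]
    by_cases hzη : f z = genericPoint Y
    · rw [ord_pullFF_eq_zero f _ hzη hc0, hg z hz1 hzη, add_zero]
    · have hzs : z ⤳ s (f z) := (hvert z hz1 hzη).2.1 _ (apply_section hs _)
      have hzO : z ∈ O := hzs.mem_open O.isOpen (show s (f z) ∈ O from hzN)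
      haveI : Nonempty O := ⟨⟨z, hzO⟩⟩
      have h0 : Scheme.ord G z = 0 := by
        rw [← htG']
        exact Scheme.ord_of_isUnit (U := O) htG hzO
      rw [hGdef, ord_div hh0 hpc0, hh, ord_div (hφ0 _) hg0, ← hord (s y) z z (hOU hzO) (hxU z)] at h0
      show _ = Scheme.ord (φ z) z
      omega
  refine ⟨N, hyO, c, hc0, ?_⟩
  have hloc : ∀ x : (f ⁻¹ᵁ N : P.Opens), ∃ (W : P.Opens) (_ : W ≤ f ⁻¹ᵁ N) (_ : x.1 ∈ W) (m : Γ(L, W)),
      IsFrame m ∧ HasCoord (e (genericPoint P)) m γ := by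
    rintro ⟨x, hx⟩
    have hux : ∀ z : P, z ⤳ x → Order.coheight z = 1 → Scheme.ord (γ / φ x) z = 0 := fun z hz hz1 => by
      rw [ord_div hγ0 (hφ0 x), hDγ z hz1 ((hz.map f.continuous).mem_open N.isOpen hx),
        ← hord x z z (hz.mem_open (U x).isOpen (hxU x)) (hxU z)]
      exact sub_self _
    obtain ⟨v', hv', hv'γ⟩ := exists_unit_of_ord hP x (div_ne_zero hγ0 (hφ0 x)) hux
    obtain ⟨W, hWV, hxW, t', ht', ht'γ⟩ := exists_section_of_unit hv' (show x ∈ U x ⊓ f ⁻¹ᵁ N from ⟨hxU x, hx⟩)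
    rw [hv'γ] at ht'γ
    refine ⟨W, hWV.trans inf_le_right, hxW, t' • res L (hWV.trans inf_le_left) (e x),
      ((he x).res _).isUnit_smul ht', ?_⟩
    have := ((hφ x).res (hWV.trans inf_le_left)).smul he₀ (genericPoint_mem hxW) t'
    rwa [ht'γ, div_mul_cancel₀ _ (hφ0 x)] at this
  choose W hWN hxW m hm hmγ using hloc
  obtain ⟨E, hE, -⟩ := existsUnique_glue (M := L) W hWN (fun p hp => ⟨⟨p, hp⟩, hxW ⟨p, hp⟩⟩) m fun a b =>
    eq_of_hasCoord hL he₀ h₀ (V := W a ⊓ W b) ⟨genericPoint_mem (hxW a), genericPoint_mem (hxW b)⟩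
      ((hmγ a).res inf_le_left) ((hmγ b).res inf_le_right)
  refine ⟨E, isFrame_of_locally fun x hx => ⟨W ⟨x, hx⟩, hWN _, hxW ⟨x, hx⟩, hE ⟨x, hx⟩ ▸ hm _⟩, ?_⟩
  have hNη : genericPoint P ∈ f ⁻¹ᵁ N := genericPoint_mem (show s y ∈ f ⁻¹ᵁ N from
    show s (f (s y)) ∈ O by rw [apply_section hs]; exact hyO)
  obtain ⟨γ', hγ'⟩ := exists_hasCoord he₀ h₀ hNη E
  have heq := hγ'.res (hWN ⟨_, hNη⟩)
  rw [hE] at heq
  rw [heq.unique he₀ h₀ (hxW ⟨_, hNη⟩) (hmγ ⟨_, hNη⟩)] at hγ'
  exact hγ'

/-- An invertible module is the inverse image of its restriction to the section. -/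
theorem nonempty_iso_pullback :
    Nonempty (L ≅ (Scheme.Modules.pullback f).obj ((Scheme.Modules.pullback s).obj L)) := by
  obtain ⟨U₀, h₀, e₀, he₀, g, hg0, hbase⟩ := exists_base_frames hs hP hY hvert hhor hL
  choose N hyN c hc0 E hE hEc using hbase
  let U : Y → P.Opens := fun a => f ⁻¹ᵁ N a
  have hle : ∀ a, f ⁻¹ᵁ N a ≤ f ⁻¹ᵁ (s ⁻¹ᵁ (f ⁻¹ᵁ N a)) := fun a x hx => by
    show f (s (f x)) ∈ N a
    rw [apply_section hs]
    exact hx
  let M := (Scheme.Modules.pullback f).obj ((Scheme.Modules.pullback s).obj L)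
  let n : ∀ a, Γ(M, U a) := fun a => res M (hle a) (pullElt f (pullElt s (E a)))
  have hn : ∀ a, IsFrame (n a) := fun a => (isFrame_pullElt f (isFrame_pullElt s (hE a))).res (hle a)
  have hcov : ∀ x, ∃ a, x ∈ U a := fun x => ⟨f x, hyN (f x)⟩
  have hηU : ∀ a, genericPoint P ∈ U a := fun a => genericPoint_mem (show s a ∈ U a from by
    show f (s a) ∈ N a
    rw [apply_section hs]
    exact hyN a)
  -- transition functions
  have htrans : ∀ a b, ∃ k : Γ(P, U a ⊓ U b),
      res L (inf_le_right : U a ⊓ U b ≤ U b) (E b) = k • res L inf_le_left (E a) ∧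
        res M (inf_le_right : U a ⊓ U b ≤ U b) (n b) = k • res M inf_le_left (n a) := by
    intro a b
    obtain ⟨k, hk⟩ := (hE a).exists_coord inf_le_left (res L (inf_le_right : U a ⊓ U b ≤ U b) (E b))
    refine ⟨k, hk, ?_⟩
    let S := s ⁻¹ᵁ (U a ⊓ U b)
    have hS : genericPoint Y ∈ S := by
      refine ⟨?_, ?_⟩ <;> show f (s (genericPoint Y)) ∈ N _ <;> rw [apply_section hs] <;>
        exact genericPoint_mem (hyN _)
    have hT : genericPoint P ∈ U a ⊓ U b := ⟨hηU a, hηU b⟩
    have hleT : U a ⊓ U b ≤ f ⁻¹ᵁ S := fun x hx => ⟨hle a hx.1, hle b hx.2⟩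
    have hgk : P.presheaf.germ (U a ⊓ U b) (genericPoint P) hT k =
        pullFF f (generic_eq hs) (c b / c a) := by
      have c1 := ((hEc a).res (inf_le_left : U a ⊓ U b ≤ U a)).smul he₀ hT k
      rw [← hk] at c1
      have e1 := ((hEc b).res inf_le_right).unique he₀ h₀ hT c1
      have hca : pullFF f (generic_eq hs) (c a) ≠ 0 := (map_ne_zero _).mpr (hc0 a)
      rw [map_div₀, eq_div_iff hca]
      refine mul_left_cancel₀ hg0 ?_
      rw [e1]
      ring
    have hev : Y.presheaf.germ S (genericPoint Y) hS (s.app _ k) = c b / c a := by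
      have h1 := isEv_section (s := s) hS k
      rw [hgk] at h1
      exact h1.unique (isEv_const hs _)
    have hk' : resR hleT (f.app S (s.app _ k)) = k := by
      refine eq_of_germ_generic hT ?_
      rw [germ_resR_generic, hgk, ← hev, pullFF_germ' _ hS]
    have h1 := congrArg (fun x => res M hleT (pullElt f (pullElt s x))) hk
    simp only [pullElt_smul, res_smul, hk'] at h1
    rw [res_pullElt_pullElt f s, res_pullElt_pullElt f s] at h1
    exact (res_res (hle b) inf_le_right _).trans (h1.trans (congrArg (k • ·) (res_res (hle a) inf_le_left _).symm))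
  have hc1 : ∀ (a b : Y) (W : P.Opens) (ha : W ≤ U a) (hb : W ≤ U b) (r : Γ(P, W)),
      res L hb (E b) = r • res L ha (E a) → res M hb (n b) = r • res M ha (n a) := by
    intro a b W ha hb r hr
    obtain ⟨k, hk, hk'⟩ := htrans a b
    have h := le_inf ha hb
    have e1 := congrArg (res L h) hk
    have e2 := congrArg (res M h) hk'
    rw [res_smul, res_res, res_res] at e1
    rw [res_smul] at e2
    rw [(hE a).coord_unique ha (hr.symm.trans e1)]
    exact ((res_res inf_le_right h _).symm.trans e2).trans (congrArg (resR h k • ·) (res_res inf_le_left h _))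
  have hc2 : ∀ (a b : Y) (W : P.Opens) (ha : W ≤ U a) (hb : W ≤ U b) (r : Γ(P, W)),
      res M hb (n b) = r • res M ha (n a) → res L hb (E b) = r • res L ha (E a) := by
    intro a b W ha hb r hr
    obtain ⟨k, hk, hk'⟩ := htrans a b
    have h := le_inf ha hb
    have e1 := congrArg (res L h) hk
    have e2 := congrArg (res M h) hk'
    rw [res_smul, res_res, res_res] at e1
    rw [res_smul] at e2
    rw [(hn a).coord_unique ha (hr.symm.trans
      (((res_res inf_le_right h _).symm.trans e2).trans (congrArg (resR h k • ·) (res_res inf_le_left h _))))]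
    exact e1
  exact ⟨{ hom := ofFrames (e := E) (n := n) hcov hE hc1
           inv := ofFrames (e := n) (n := E) hcov hn hc2
           hom_inv_id := hom_ext_of_frames U hcov E hE fun a => by
             rw [Scheme.Modules.Hom.comp_app]
             exact (congrArg _ (ofFrames_app hcov hE hc1 a)).trans (ofFrames_app hcov hn hc2 a)
           inv_hom_id := hom_ext_of_frames U hcov n hn fun a => by
             rw [Scheme.Modules.Hom.comp_app]
             exact (congrArg _ (ofFrames_app hcov hn hc2 a)).trans (ofFrames_app hcov hE hc1 a) }⟩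

end Groth.Agent.WDivX
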