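import Groth.Agent.WDivX.AffineHom
import Groth.Agent.WDivX.PicHom

/-!
# Homotopy invariance of the Picard group of a normal scheme
-/

universe u

open AlgebraicGeometry CategoryTheory TopologicalSpace IsLocalRing

set_option backward.isDefEq.respectTransparency false

namespace Groth.Agent.WDivX

variable {σ : Type u} [Finite σ] {Y : Scheme.{u}} [IsIntegral Y] [IsNoetherian Y]

/-- Invertible modules on an open subscheme of affine space with a section come from the base. -/
theorem nonempty_iso_pullback_affineSpace (hY : Pi1.IsNormalScheme Y) {P : Scheme.{u}}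
    (i : P ⟶ 𝔸(σ; Y)) [IsOpenImmersion i] (s : Y ⟶ P) (hs : s ≫ i ≫ (𝔸(σ; Y) ↘ Y) = 𝟙 Y)
    (L : P.Modules) (hL : PicF.IsInvertible L) :
    Nonempty (L ≅ (Scheme.Modules.pullback (i ≫ (𝔸(σ; Y) ↘ Y))).obj ((Scheme.Modules.pullback s).obj L)) := by
  haveI : Nonempty P := ⟨s (genericPoint Y)⟩
  haveI : IsIntegral P := isIntegral_of_isOpenImmersion i
  haveI : IsLocallyNoetherian 𝔸(σ; Y) := LocallyOfFiniteType.isLocallyNoetherian (𝔸(σ; Y) ↘ Y)
  haveI : IsLocallyNoetherian P := isLocallyNoetherian_of_isOpenImmersion i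
  haveI : CompactSpace P := QuasiCompact.compactSpace_of_compactSpace (i ≫ (𝔸(σ; Y) ↘ Y))
  have hq := isPolyOver_affineSpace σ Y
  have hP : Pi1.IsNormalScheme P := fun x => by
    refine ⟨inferInstance, ?_⟩
    haveI := ((isNormal hq hY) (i x)).2
    exact IsIntegrallyClosed.of_equiv (asIso (i.stalkMap x)).commRingCatIsoToRingEquiv
  refine nonempty_iso_pullback hs hP hY (fun z hz hz' => ?_) (fun D hD => ?_) hL
  · obtain ⟨h1, h2, h3⟩ := vertical hq (i z) ((coheight_eq_of_isOpenImmersion i).trans hz) hz'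
    refine ⟨h1, fun w hw => i.isOpenEmbedding.isInducing.specializes_iff.mp (h2 (i w) hw), ?_⟩
    rw [Scheme.Hom.stalkMap_comp, CommRingCat.hom_comp, ← Ideal.map_map]
    erw [h3]
    exact map_maximalIdeal_of_isIso i z
  · obtain ⟨g, hg0, hg⟩ := exists_hor hq (Function.extend i D 0) ((hD.image i).subset fun x hx => by
      by_cases h : ∃ z, i z = x
      · obtain ⟨z, rfl⟩ := h
        exact ⟨z, by simpa [i.isOpenEmbedding.injective.extend_apply] using hx, rfl⟩
      · exact absurd (Function.extend_apply' _ _ _ h) hx)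
    refine ⟨(ffMap i).hom g, fun h => hg0 ((ffMap_bijective i).1 (h.trans (map_zero _).symm)), fun x hx hx' => ?_⟩
    rw [ord_ffMap i g x, hg (i x) ((coheight_eq_of_isOpenImmersion i).trans hx) hx',
      i.isOpenEmbedding.injective.extend_apply]

end Groth.Agent.WDivX
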