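import Groth.Agent.WDivX.PullFF
import Mathlib.AlgebraicGeometry.AffineScheme
import Mathlib.AlgebraicGeometry.Properties

/-!
# Orders of vanishing on an affine scheme
-/

universe u

open AlgebraicGeometry CategoryTheory TopologicalSpace IsLocalRing

set_option backward.isDefEq.respectTransparency false

namespace Groth.Agent.WDivX

variable {R S : CommRingCat.{u}}

/-- The germ of a global function on an affine scheme. -/
noncomputable def gS (q : Spec R) : R →+* (Spec R).presheaf.stalk q :=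
  ((Scheme.ΓSpecIso R).inv ≫ (Spec R).presheaf.germ ⊤ q trivial).hom

theorem gS_eq (q : Spec R) (r : R) :
    gS q r = (Spec.stalkIso R q).inv (algebraMap R (Localization.AtPrime q.asIdeal) r) := by
  have := ConcreteCategory.congr_hom (Spec.algebraMap_stalkIso_inv q) r
  exact this.symm

theorem stalkIso_inv_bijective (q : Spec R) : Function.Bijective (Spec.stalkIso R q).inv.hom :=
  ConcreteCategory.bijective_of_isIso (Spec.stalkIso R q).inv

theorem isUnit_gS_iff (q : Spec R) (r : R) : IsUnit (gS q r) ↔ r ∉ q.asIdeal := by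
  rw [gS_eq]
  exact (MulEquiv.isUnit_map (f := ((Spec.stalkIso R q).symm.commRingCatIsoToRingEquiv).toMulEquiv)).trans
    (IsLocalization.AtPrime.isUnit_to_map_iff (Localization.AtPrime q.asIdeal) q.asIdeal r)

theorem maximalIdeal_stalk (q : Spec R) :
    maximalIdeal ((Spec R).presheaf.stalk q) = q.asIdeal.map (gS q) := by
  have h : gS q = (Spec.stalkIso R q).inv.hom.comp (algebraMap R (Localization.AtPrime q.asIdeal)) :=
    RingHom.ext (gS_eq q)
  rw [h, ← Ideal.map_map, IsLocalization.AtPrime.map_eq_maximalIdeal q.asIdeal]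
  haveI : ((maximalIdeal (Localization.AtPrime q.asIdeal)).map (Spec.stalkIso R q).inv.hom).IsMaximal :=
    Ideal.IsMaximal.map_bijective (Spec.stalkIso R q).inv.hom (stalkIso_inv_bijective q)
      (maximalIdeal.isMaximal _)
  exact (eq_maximalIdeal this).symm

theorem stalkMap_gS (φ : R ⟶ S) (p : Spec S) (r : R) :
    (Spec.map φ).stalkMap p (gS ((Spec.map φ) p) r) = gS p (φ r) := by
  have h1 := Scheme.Hom.germ_stalkMap_apply (Spec.map φ) ⊤ p trivial ((Scheme.ΓSpecIso R).inv r)
  refine h1.trans ?_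
  have h2 := ConcreteCategory.congr_hom (Scheme.ΓSpecIso_inv_naturality φ) r
  show (Spec S).presheaf.germ ⊤ p trivial ((Spec.map φ).appTop ((Scheme.ΓSpecIso R).inv r)) = _
  rw [show (Spec.map φ).appTop ((Scheme.ΓSpecIso R).inv r) = (Scheme.ΓSpecIso S).inv (φ r) from h2.symm]
  rfl

variable [IsDomain R]

/-- A global function as a rational function. -/
noncomputable def rat : R →+* (Spec R).functionField := gS (genericPoint (Spec R))

theorem algebraMap_gS (q : Spec R) (r : R) :
    algebraMap ((Spec R).presheaf.stalk q) (Spec R).functionField (gS q r) = rat r :=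
  ConcreteCategory.congr_hom (TopCat.Presheaf.germ_stalkSpecializes (Spec R).presheaf _ _)
    ((Scheme.ΓSpecIso R).inv r)

theorem rat_ne_zero {r : R} (hr : r ≠ 0) : rat r ≠ 0 := by
  refine IsUnit.ne_zero ((isUnit_gS_iff _ r).mpr fun h => hr ?_)
  rw [genericPoint_eq_bot_of_affine] at h
  exact h

theorem exists_rat_div (c : (Spec R).functionField) : ∃ a b : R, b ≠ 0 ∧ c = rat a / rat b := by
  haveI : Nonempty (⊤ : (Spec R).Opens) := ⟨⟨genericPoint (Spec R), trivial⟩⟩
  haveI := functionField_isFractionRing_of_isAffineOpen (Spec R) ⊤ (isAffineOpen_top _)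
  obtain ⟨a, b, hb, rfl⟩ := IsFractionRing.div_surjective (A := Γ(Spec R, ⊤)) c
  have hsurj : ∀ x : Γ(Spec R, ⊤), ∃ r : R, (Scheme.ΓSpecIso R).inv r = x :=
    fun x => ⟨(Scheme.ΓSpecIso R).hom x, (Scheme.ΓSpecIso R).hom_inv_id_apply x⟩
  obtain ⟨r, rfl⟩ := hsurj a
  obtain ⟨s, rfl⟩ := hsurj b
  refine ⟨r, s, fun hs => nonZeroDivisors.ne_zero hb (by rw [hs, map_zero]), rfl⟩

variable [IsNoetherianRing R]

theorem ord_rat_eq_zero {q : Spec R} {r : R} (hr : r ∉ q.asIdeal) : Scheme.ord (rat r) q = 0 := by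
  rw [← algebraMap_gS q r]
  exact ord_algebraMap_of_isUnit ((isUnit_gS_iff q r).mpr hr)

theorem ord_rat_generator {q : Spec R} (hq : Order.coheight q = 1) {g : R} (hg : g ∈ q.asIdeal)
    (h : ∀ x ∈ q.asIdeal, ∃ s, s ∉ q.asIdeal ∧ g ∣ s * x) : Scheme.ord (rat g) q = 1 := by
  rw [← algebraMap_gS q g]
  refine ord_algebraMap_generator hq (le_antisymm ?_ ?_)
  · rw [maximalIdeal_stalk, Ideal.map_le_iff_le_comap]
    intro x hx
    obtain ⟨s, hs, c, hc⟩ := h x hx
    obtain ⟨v, hv⟩ := (isUnit_gS_iff q s).mpr hs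
    refine Ideal.mem_span_singleton.mpr ⟨↑v⁻¹ * gS q c, ?_⟩
    rw [mul_left_comm, ← map_mul (gS q) g c, ← hc, map_mul (gS q) s x, ← hv, ← mul_assoc, Units.inv_mul, one_mul]
  · rw [Ideal.span_le, Set.singleton_subset_iff, maximalIdeal_stalk]
    exact Ideal.mem_map_of_mem _ hg

theorem ord_rat_pos {q : Spec R} (hq : Order.coheight q = 1) [IsDiscreteValuationRing ((Spec R).presheaf.stalk q)]
    {r : R} (hr0 : r ≠ 0) (hr : r ∈ q.asIdeal) : 1 ≤ Scheme.ord (rat r) q := by
  obtain ⟨π, hπ⟩ := IsDiscreteValuationRing.exists_irreducible ((Spec R).presheaf.stalk q)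
  have hmem : gS q r ∈ maximalIdeal ((Spec R).presheaf.stalk q) :=
    maximalIdeal_stalk q ▸ Ideal.mem_map_of_mem _ hr
  rw [hπ.maximalIdeal_eq, Ideal.mem_span_singleton] at hmem
  obtain ⟨c, hc⟩ := hmem
  have hc0 : c ≠ 0 := fun h0 => rat_ne_zero hr0 (by rw [← algebraMap_gS q r, hc, h0, mul_zero, map_zero])
  have hπ0 := algebraMap_stalk_ne_zero (X := Spec R) (x := q) hπ.ne_zero
  rw [← algebraMap_gS q r, hc, map_mul, Scheme.ord_mul hπ0 (algebraMap_stalk_ne_zero hc0),
    ord_algebraMap_generator hq hπ.maximalIdeal_eq]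
  have := CDiv6.reg_ord_nonneg (algebraMap_stalk_ne_zero hc0) ⟨c, rfl⟩ (y := q)
  omega

omit [IsNoetherianRing R] in
theorem pullFF_rat [IsDomain S] (φ : R ⟶ S)
    (h : (Spec.map φ) (genericPoint (Spec S)) = genericPoint (Spec R)) (r : R) :
    pullFF (Spec.map φ) h (rat r) = rat (φ r) := by
  rw [← algebraMap_gS ((Spec.map φ) (genericPoint (Spec S))) r, pullFF_algebraMap, stalkMap_gS, algebraMap_gS]

end Groth.Agent.WDivX
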