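import Groth.Agent.CDiv6.Normal
import Groth.Agent.WDivX.OrdOpen
import Groth.Agent.S1692

/-!
# Pulling back rational functions and orders of vanishing
-/

universe u

open AlgebraicGeometry CategoryTheory TopologicalSpace IsLocalRing

set_option backward.isDefEq.respectTransparency false

namespace Groth.Agent.WDivX

section Ord

variable {X : Scheme.{u}} [IsIntegral X] [IsLocallyNoetherian X]

theorem ord_one (x : X) : Scheme.ord (1 : X.functionField) x = 0 := by
  have := Scheme.ord_mul (x := x) (one_ne_zero (α := X.functionField)) (one_ne_zero (α := X.functionField))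
  rw [one_mul] at this
  omega

theorem ord_inv {f : X.functionField} (hf : f ≠ 0) (x : X) : Scheme.ord f⁻¹ x = -Scheme.ord f x := by
  have h := CDiv6.ord_unit_inv (Units.mk0 f hf) x
  simpa using h

theorem ord_div {f g : X.functionField} (hf : f ≠ 0) (hg : g ≠ 0) (x : X) :
    Scheme.ord (f / g) x = Scheme.ord f x - Scheme.ord g x := by
  rw [div_eq_mul_inv, Scheme.ord_mul hf (inv_ne_zero hg), ord_inv hg]
  ring

theorem ord_pow {f : X.functionField} (hf : f ≠ 0) (x : X) (n : ℕ) :
    Scheme.ord (f ^ n) x = n * Scheme.ord f x := by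
  induction n with
  | zero => simp [ord_one]
  | succ n ih => rw [pow_succ, Scheme.ord_mul (pow_ne_zero _ hf) hf, ih]; push_cast; ring

theorem ord_zpow {f : X.functionField} (hf : f ≠ 0) (x : X) (n : ℤ) :
    Scheme.ord (f ^ n) x = n * Scheme.ord f x := by
  obtain ⟨m, rfl | rfl⟩ := n.eq_nat_or_neg
  · rw [zpow_natCast, ord_pow hf]
  · rw [zpow_neg, zpow_natCast, ord_inv (pow_ne_zero _ hf), ord_pow hf]; ring

theorem ord_prod {ι : Type*} (s : Finset ι) (f : ι → X.functionField) (hf : ∀ i ∈ s, f i ≠ 0) (x : X) :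
    Scheme.ord (∏ i ∈ s, f i) x = ∑ i ∈ s, Scheme.ord (f i) x := by
  classical
  induction s using Finset.induction_on with
  | empty => simp [ord_one]
  | insert a s ha ih =>
    rw [Finset.prod_insert ha, Finset.sum_insert ha,
      Scheme.ord_mul (hf a (Finset.mem_insert_self a s))
        (Finset.prod_ne_zero_iff.2 fun i hi => hf i (Finset.mem_insert_of_mem hi)),
      ih fun i hi => hf i (Finset.mem_insert_of_mem hi)]

theorem algebraMap_stalk_ne_zero {x : X} {a : X.presheaf.stalk x} (ha : a ≠ 0) :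
    algebraMap (X.presheaf.stalk x) X.functionField a ≠ 0 :=
  fun h => ha (IsFractionRing.injective (X.presheaf.stalk x) X.functionField (by rw [h, map_zero]))

theorem reg_iff_exists {x : X} {f : X.functionField} :
    CDiv6.Reg x f ↔ ∃ a, algebraMap (X.presheaf.stalk x) X.functionField a = f := Iff.rfl

theorem ord_algebraMap_of_isUnit {x : X} {a : X.presheaf.stalk x} (ha : IsUnit a) :
    Scheme.ord (algebraMap (X.presheaf.stalk x) X.functionField a) x = 0 := by
  obtain ⟨v, rfl⟩ := ha
  have h0 := algebraMap_stalk_ne_zero (v.ne_zero)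
  have h1 := CDiv6.reg_ord_nonneg h0 ⟨_, rfl⟩
  have h2 : 0 ≤ Scheme.ord (algebraMap (X.presheaf.stalk x) X.functionField v)⁻¹ x :=
    CDiv6.reg_ord_nonneg (inv_ne_zero h0)
      ⟨(↑v⁻¹ : X.presheaf.stalk x), eq_inv_of_mul_eq_one_left (by rw [← map_mul, Units.inv_mul, map_one])⟩
  rw [ord_inv h0] at h2
  omega

theorem isDVR_of_maximalIdeal_eq_span {x : X} (hx : Order.coheight x = 1) {g : X.presheaf.stalk x}
    (hg : maximalIdeal (X.presheaf.stalk x) = Ideal.span {g}) :
    IsDiscreteValuationRing (X.presheaf.stalk x) ∧ Irreducible g := by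
  have hnf : ¬ IsField (X.presheaf.stalk x) := fun hF => by
    have h := ringKrullDim_stalk_eq_coheight x
    rw [ringKrullDim_eq_zero_of_isField hF, hx] at h
    exact zero_ne_one h
  haveI : IsDiscreteValuationRing (X.presheaf.stalk x) :=
    ((IsDiscreteValuationRing.TFAE _ hnf).out 0 4 rfl rfl).mpr ⟨g, by rw [hg, Ideal.submodule_span_eq]⟩
  exact ⟨inferInstance, (IsDiscreteValuationRing.irreducible_iff_uniformizer g).mpr hg⟩

theorem ord_algebraMap_generator {x : X} (hx : Order.coheight x = 1) {g : X.presheaf.stalk x}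
    (hg : maximalIdeal (X.presheaf.stalk x) = Ideal.span {g}) :
    Scheme.ord (algebraMap (X.presheaf.stalk x) X.functionField g) x = 1 := by
  obtain ⟨hdvr, hirr⟩ := isDVR_of_maximalIdeal_eq_span hx hg
  haveI : Ring.KrullDimLE 1 (X.presheaf.stalk x) := krullDimLE_of_coheight_le hx.le
  rw [Scheme.ord_eq_iff hx (algebraMap_stalk_ne_zero hirr.ne_zero)]
  exact Ring.ordFrac_irreducible hirr

/-- A rational function has finitely many zeros and poles on a Noetherian scheme. -/
theorem finite_ord [CompactSpace X] {f : X.functionField} (hf : f ≠ 0) : {x : X | Scheme.ord f x ≠ 0}.Finite := by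
  have h := (Groth.Agent.S1692.result X f hf).finite_nonempty_of_compact
  have h' : (Set.univ : Set {ξ : ↥X // Order.coheight ξ = 1 ∧ Scheme.ord f ξ ≠ 0}).Finite :=
    h.subset fun ξ _ => ⟨ξ.1, subset_closure rfl⟩
  refine (h'.image Subtype.val).subset fun x hx => ⟨⟨x, ?_, hx⟩, trivial, rfl⟩
  by_contra h1
  exact hx (Scheme.ord_eq_zero_of_coheight_neq_one h1 f)

end Ord

section Pull

variable {X Y Z : Scheme.{u}} [IsIntegral X] [IsIntegral Y] [IsIntegral Z]

/-- The inverse image of rational functions along a morphism matching the generic points. -/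
noncomputable def pullFF (f : X ⟶ Y) (h : f (genericPoint X) = genericPoint Y) :
    Y.functionField →+* X.functionField :=
  (Y.presheaf.stalkSpecializes (specializes_of_eq h) ≫ f.stalkMap (genericPoint X)).hom

theorem pullFF_germ (f : X ⟶ Y) (h : f (genericPoint X) = genericPoint Y) (U : Y.Opens) [Nonempty U]
    [Nonempty (f ⁻¹ᵁ U)] (s : Γ(Y, U)) :
    pullFF f h (Y.germToFunctionField U s) = X.germToFunctionField (f ⁻¹ᵁ U) (f.app U s) := by
  show (f.stalkMap (genericPoint X)).hom ((Y.presheaf.stalkSpecializes _).hom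
    ((Y.presheaf.germ U (genericPoint Y) _).hom s)) = _
  rw [show (Y.presheaf.stalkSpecializes (specializes_of_eq h)).hom
      ((Y.presheaf.germ U (genericPoint Y) _).hom s) =
        (Y.presheaf.germ U (f (genericPoint X)) (h ▸ ((genericPoint_spec Y).mem_open_set_iff U.2).2
          (by simpa using (inferInstance : Nonempty U)))).hom s from
    ConcreteCategory.congr_hom (TopCat.Presheaf.germ_stalkSpecializes Y.presheaf _ _) s]
  exact Scheme.Hom.germ_stalkMap_apply f U _ _ s

theorem pullFF_algebraMap (f : X ⟶ Y) (h : f (genericPoint X) = genericPoint Y) (x : X)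
    (a : Y.presheaf.stalk (f x)) :
    pullFF f h (algebraMap (Y.presheaf.stalk (f x)) Y.functionField a) =
      algebraMap (X.presheaf.stalk x) X.functionField (f.stalkMap x a) := by
  have h' := congrArg (fun m : Y.presheaf.stalk (f x) ⟶ X.functionField => m.hom a)
    (f.stalkSpecializes_stalkMap (genericPoint X) x ((genericPoint_spec X).specializes trivial))
  refine Eq.trans ?_ h'.symm.symm
  change (Y.presheaf.stalkSpecializes _ ≫ (Y.presheaf.stalkSpecializes _ ≫ f.stalkMap _)).hom a = _
  rw [TopCat.Presheaf.stalkSpecializes_comp_assoc]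

theorem pullFF_ext {φ ψ : Y.functionField →+* X.functionField}
    (h : ∀ (U : Y.Opens) [Nonempty U] (s : Γ(Y, U)), φ (Y.germToFunctionField U s) = ψ (Y.germToFunctionField U s)) :
    φ = ψ := by
  refine RingHom.ext fun c => ?_
  obtain ⟨U, hU, s, rfl⟩ := Y.presheaf.exists_germ_eq (x := genericPoint Y) c
  haveI : Nonempty U := ⟨⟨_, hU⟩⟩
  exact h U s

theorem pullFF_comp (f : X ⟶ Y) (g : Y ⟶ Z) (hf : f (genericPoint X) = genericPoint Y)
    (hg : g (genericPoint Y) = genericPoint Z) (h : (f ≫ g) (genericPoint X) = genericPoint Z) :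
    pullFF (f ≫ g) h = (pullFF f hf).comp (pullFF g hg) := by
  refine pullFF_ext fun U _ s => ?_
  have hUη : genericPoint Z ∈ U :=
    ((genericPoint_spec Z).mem_open_set_iff U.2).2 (by simpa using (inferInstance : Nonempty U))
  haveI h1 : Nonempty (g ⁻¹ᵁ U) := ⟨⟨genericPoint Y, show g (genericPoint Y) ∈ U from hg ▸ hUη⟩⟩
  haveI : Nonempty (f ⁻¹ᵁ (g ⁻¹ᵁ U)) :=
    ⟨⟨genericPoint X, show g (f (genericPoint X)) ∈ U from hf ▸ hg ▸ hUη⟩⟩
  haveI : Nonempty ((f ≫ g) ⁻¹ᵁ U) := ‹Nonempty (f ⁻¹ᵁ (g ⁻¹ᵁ U))›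
  rw [pullFF_germ, RingHom.comp_apply, pullFF_germ, pullFF_germ]
  rfl

theorem pullFF_congr {f f' : X ⟶ Y} (e : f = f') (h : f (genericPoint X) = genericPoint Y) :
    pullFF f h = pullFF f' (e ▸ h) := by
  subst e; rfl

theorem ffMap_eq_pullFF (j : X ⟶ Y) [IsOpenImmersion j] :
    (ffMap j).hom = pullFF j (genericPoint_eq_of_isOpenImmersion j) := rfl

variable [IsLocallyNoetherian X] [IsLocallyNoetherian Y]

/-- Orders pull back along a morphism which is unramified in codimension one. -/
theorem ord_pullFF (f : X ⟶ Y) (h : f (genericPoint X) = genericPoint Y) {x : X}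
    (hx : Order.coheight x = 1) (hy : Order.coheight (f x) = 1)
    [IsDiscreteValuationRing (Y.presheaf.stalk (f x))]
    (hm : (maximalIdeal (Y.presheaf.stalk (f x))).map (f.stalkMap x).hom = maximalIdeal (X.presheaf.stalk x))
    {c : Y.functionField} (hc : c ≠ 0) :
    Scheme.ord (pullFF f h c) x = Scheme.ord c (f x) := by
  obtain ⟨π, hπ⟩ := IsDiscreteValuationRing.exists_irreducible (Y.presheaf.stalk (f x))
  have hπ1 : Scheme.ord (algebraMap (Y.presheaf.stalk (f x)) Y.functionField π) (f x) = 1 :=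
    ord_algebraMap_generator hy hπ.maximalIdeal_eq
  have hmx : maximalIdeal (X.presheaf.stalk x) = Ideal.span {(f.stalkMap x).hom π} := by
    rw [← hm, hπ.maximalIdeal_eq, Ideal.map_span, Set.image_singleton]
  have hφπ := ord_algebraMap_generator hx hmx
  have key : ∀ a : Y.presheaf.stalk (f x), a ≠ 0 →
      Scheme.ord (pullFF f h (algebraMap _ Y.functionField a)) x =
        Scheme.ord (algebraMap _ Y.functionField a) (f x) := by
    intro a ha
    obtain ⟨k, v, rfl⟩ := IsDiscreteValuationRing.eq_unit_mul_pow_irreducible ha hπ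
    have hv0 := algebraMap_stalk_ne_zero (X := Y) (x := f x) v.ne_zero
    have hπ0 := algebraMap_stalk_ne_zero (X := Y) (x := f x) hπ.ne_zero
    rw [map_mul, map_pow, map_mul, map_pow, Scheme.ord_mul hv0 (pow_ne_zero _ hπ0), ord_pow hπ0, hπ1,
      ord_algebraMap_of_isUnit v.isUnit, pullFF_algebraMap, pullFF_algebraMap,
      Scheme.ord_mul (algebraMap_stalk_ne_zero (v.isUnit.map _).ne_zero)
        (pow_ne_zero _ (algebraMap_stalk_ne_zero (isDVR_of_maximalIdeal_eq_span hx hmx).2.ne_zero)),
      ord_pow (algebraMap_stalk_ne_zero (isDVR_of_maximalIdeal_eq_span hx hmx).2.ne_zero),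
      ord_algebraMap_of_isUnit (v.isUnit.map _), hφπ]
  obtain ⟨a, b, hb, rfl⟩ := IsFractionRing.div_surjective (A := Y.presheaf.stalk (f x)) c
  have hb0 := nonZeroDivisors.ne_zero hb
  have ha0 : a ≠ 0 := fun ha => hc (by rw [ha, map_zero, zero_div])
  rw [map_div₀, ord_div ((map_ne_zero _).2 (algebraMap_stalk_ne_zero ha0))
    ((map_ne_zero _).2 (algebraMap_stalk_ne_zero hb0)),
    ord_div (algebraMap_stalk_ne_zero ha0) (algebraMap_stalk_ne_zero hb0), key a ha0, key b hb0]

theorem ord_pullFF_eq_zero (f : X ⟶ Y) (h : f (genericPoint X) = genericPoint Y) {x : X}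
    (hfx : f x = genericPoint Y) {c : Y.functionField} (hc : c ≠ 0) :
    Scheme.ord (pullFF f h c) x = 0 := by
  obtain ⟨a, ha⟩ : CDiv6.Reg (f x) c := hfx ▸ CDiv6.reg_genericPoint c
  obtain ⟨b, hb⟩ : CDiv6.Reg (f x) c⁻¹ := hfx ▸ CDiv6.reg_genericPoint c⁻¹
  have hab : a * b = 1 := IsFractionRing.injective (Y.presheaf.stalk (f x)) Y.functionField (by
    rw [map_mul, ha, hb, mul_inv_cancel₀ hc, map_one])
  rw [← ha, pullFF_algebraMap]
  exact ord_algebraMap_of_isUnit ((IsUnit.of_mul_eq_one b hab).map _)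

end Pull

end Groth.Agent.WDivX
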