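import Groth.Agent.InvX.Tensor
import Groth.Agent.WDivX.PullFF

/-!
# Coordinates of sections of an invertible module in the function field
-/

universe u

open AlgebraicGeometry CategoryTheory TopologicalSpace

set_option backward.isDefEq.respectTransparency false

namespace Groth.Agent.WDivX

open Groth.Agent.InvX Groth.Agent.AModX

variable {P : Scheme.{u}} [IsIntegral P]

theorem genericPoint_mem {V : P.Opens} {p : P} (hp : p ∈ V) : genericPoint P ∈ V :=
  ((genericPoint_spec P).specializes trivial).mem_open V.isOpen hp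

theorem algebraMap_germ {V : P.Opens} {x : P} (hx : x ∈ V) (hη : genericPoint P ∈ V) (t : Γ(P, V)) :
    algebraMap (P.presheaf.stalk x) P.functionField (P.presheaf.germ V x hx t) =
      P.presheaf.germ V (genericPoint P) hη t :=
  ConcreteCategory.congr_hom (TopCat.Presheaf.germ_stalkSpecializes P.presheaf _ _) t

theorem germ_resR_generic {V W : P.Opens} (h : W ≤ V) (hη : genericPoint P ∈ W) (t : Γ(P, V)) :
    P.presheaf.germ W (genericPoint P) hη (resR h t) = P.presheaf.germ V (genericPoint P) (h hη) t :=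
  P.presheaf.germ_res_apply (homOfLE h) _ hη t

theorem eq_of_germ_generic {V : P.Opens} (hη : genericPoint P ∈ V) {t t' : Γ(P, V)}
    (h : P.presheaf.germ V (genericPoint P) hη t = P.presheaf.germ V (genericPoint P) hη t') : t = t' :=
  germ_injective_of_isIntegral P (genericPoint P) hη h

variable {L : P.Modules} {U₀ : P.Opens} {e₀ : Γ(L, U₀)}

variable (e₀) in
/-- `γ` is the coordinate of `m` at the generic point. -/
def HasCoord {V : P.Opens} (m : Γ(L, V)) (γ : P.functionField) : Prop :=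
  ∀ (W : P.Opens) (hW : genericPoint P ∈ W) (hV : W ≤ V) (h₀ : W ≤ U₀) (r : Γ(P, W)),
    res L hV m = r • res L h₀ e₀ → P.presheaf.germ W (genericPoint P) hW r = γ

theorem exists_hasCoord (he₀ : IsFrame e₀) (h₀ : genericPoint P ∈ U₀) {V : P.Opens}
    (hV : genericPoint P ∈ V) (m : Γ(L, V)) : ∃ γ, HasCoord e₀ m γ := by
  obtain ⟨r₀, hr₀⟩ := he₀.exists_coord (inf_le_right : V ⊓ U₀ ≤ U₀) (res L inf_le_left m)
  refine ⟨P.presheaf.germ (V ⊓ U₀) (genericPoint P) ⟨hV, h₀⟩ r₀, fun W hW hWV hW₀ r hr => ?_⟩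
  have h : W ≤ V ⊓ U₀ := le_inf hWV hW₀
  have h1 := congrArg (res L h) hr₀
  rw [res_res, res_smul, res_res] at h1
  rw [he₀.coord_unique hW₀ (hr.symm.trans h1), germ_resR_generic h hW]

theorem HasCoord.unique (he₀ : IsFrame e₀) (h₀ : genericPoint P ∈ U₀) {V : P.Opens}
    (hV : genericPoint P ∈ V) {m : Γ(L, V)} {γ γ' : P.functionField}
    (h : HasCoord e₀ m γ) (h' : HasCoord e₀ m γ') : γ = γ' := by
  obtain ⟨r, hr⟩ := he₀.exists_coord (inf_le_right : V ⊓ U₀ ≤ U₀) (res L inf_le_left m)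
  exact (h (V ⊓ U₀) ⟨hV, h₀⟩ _ _ r hr).symm.trans (h' (V ⊓ U₀) ⟨hV, h₀⟩ _ _ r hr)

theorem HasCoord.res {V V' : P.Opens} (hle : V' ≤ V) {m : Γ(L, V)} {γ : P.functionField}
    (h : HasCoord e₀ m γ) : HasCoord e₀ (AModX.res L hle m) γ := fun W hW hV h₀ r hr => by
  rw [res_res] at hr
  exact h W hW _ h₀ r hr

theorem HasCoord.smul (he₀ : IsFrame e₀) {V : P.Opens} (hV : genericPoint P ∈ V) {m : Γ(L, V)}
    {γ : P.functionField} (t : Γ(P, V)) (h : HasCoord e₀ m γ) :
    HasCoord e₀ (t • m) (P.presheaf.germ V (genericPoint P) hV t * γ) := fun W hW hWV h₀ r hr => by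
  obtain ⟨r', hr'⟩ := he₀.exists_coord h₀ (AModX.res L hWV m)
  rw [res_smul, hr', ← mul_smul] at hr
  rw [← he₀.coord_unique h₀ hr, map_mul, germ_resR_generic hWV hW, h W hW hWV h₀ r' hr']

theorem HasCoord.ne_zero (he₀ : IsFrame e₀) (h₀ : genericPoint P ∈ U₀) {U : P.Opens}
    (hU : genericPoint P ∈ U) {e : Γ(L, U)} (he : IsFrame e) {γ : P.functionField}
    (h : HasCoord e₀ e γ) : γ ≠ 0 := by
  obtain ⟨k, hk⟩ := he₀.exists_coord (inf_le_right : U ⊓ U₀ ≤ U₀) (AModX.res L inf_le_left e)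
  obtain ⟨l, hl⟩ := he.exists_coord (inf_le_left : U ⊓ U₀ ≤ U) (AModX.res L inf_le_right e₀)
  have h1 : k * l = 1 := he.coord_unique inf_le_left (by rw [one_smul, mul_smul, ← hl, ← hk])
  rw [← h (U ⊓ U₀) ⟨hU, h₀⟩ _ _ k hk]
  intro h0
  have h2 := congrArg (P.presheaf.germ (U ⊓ U₀) (genericPoint P) ⟨hU, h₀⟩) h1
  rw [map_mul, map_one, h0, zero_mul] at h2
  exact zero_ne_one h2

/-- Sections with the same coordinate agree. -/
theorem eq_of_hasCoord (hL : PicF.IsInvertible L) (he₀ : IsFrame e₀) (h₀ : genericPoint P ∈ U₀)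
    {V : P.Opens} (hV : genericPoint P ∈ V) {m m' : Γ(L, V)} {γ : P.functionField}
    (h : HasCoord e₀ m γ) (h' : HasCoord e₀ m' γ) : m = m' := by
  refine eq_of_locally m m' fun p hp => ?_
  obtain ⟨U, hpU, e, he⟩ := exists_frame hL p
  have hW : genericPoint P ∈ V ⊓ U := genericPoint_mem (show p ∈ V ⊓ U from ⟨hp, hpU⟩)
  refine ⟨V ⊓ U, inf_le_left, ⟨hp, hpU⟩, ?_⟩
  obtain ⟨φ, hφ⟩ := exists_hasCoord he₀ h₀ (genericPoint_mem hpU) e
  obtain ⟨r, hr⟩ := he.exists_coord inf_le_right (AModX.res L (inf_le_left : V ⊓ U ≤ V) m)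
  obtain ⟨r', hr'⟩ := he.exists_coord inf_le_right (AModX.res L (inf_le_left : V ⊓ U ≤ V) m')
  have c1 := (hφ.res (inf_le_right : V ⊓ U ≤ U)).smul he₀ hW r
  have c2 := (hφ.res (inf_le_right : V ⊓ U ≤ U)).smul he₀ hW r'
  rw [← hr] at c1
  rw [← hr'] at c2
  have e1 := c1.unique he₀ h₀ hW (h.res inf_le_left)
  have e2 := c2.unique he₀ h₀ hW (h'.res inf_le_left)
  have hφ0 := hφ.ne_zero he₀ h₀ (genericPoint_mem hpU) he
  rw [hr, hr', eq_of_germ_generic hW (mul_right_cancel₀ hφ0 (e1.trans e2.symm))]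

theorem isFrame_of_locally {U : P.Opens} {e : Γ(L, U)}
    (h : ∀ x ∈ U, ∃ (W : P.Opens) (hW : W ≤ U), x ∈ W ∧ IsFrame (AModX.res L hW e)) : IsFrame e :=
  isFrame_of_germ fun x hx => by
    obtain ⟨W, hW, hxW, hF⟩ := h x hx
    have := hF.germ_bijective hxW
    rwa [germ_res'] at this

/-- A rational function without zeros or poles near a point of a normal scheme is a unit there. -/
theorem exists_unit_of_ord [IsLocallyNoetherian P] (hP : Pi1.IsNormalScheme P) (x : P) {γ : P.functionField}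
    (hγ : γ ≠ 0) (h : ∀ z : P, z ⤳ x → Order.coheight z = 1 → Scheme.ord γ z = 0) :
    ∃ v : P.presheaf.stalk x, IsUnit v ∧ algebraMap (P.presheaf.stalk x) P.functionField v = γ := by
  obtain ⟨a, ha⟩ := CDiv6.reg_of_forall_ord_nonneg hP (x := x) hγ fun z h1 h2 => (h z h1 h2).ge
  obtain ⟨b, hb⟩ := CDiv6.reg_of_forall_ord_nonneg hP (x := x) (inv_ne_zero hγ) fun z h1 h2 => by
    rw [ord_inv hγ, h z h1 h2, neg_zero]
  refine ⟨a, IsUnit.of_mul_eq_one b (IsFractionRing.injective (P.presheaf.stalk x) P.functionField ?_), ha⟩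
  rw [map_mul, ha, hb, mul_inv_cancel₀ hγ, map_one]

theorem exists_section_of_unit {x : P} {v : P.presheaf.stalk x} (hv : IsUnit v) {V : P.Opens} (hxV : x ∈ V) :
    ∃ (W : P.Opens) (_ : W ≤ V) (hx : x ∈ W) (t : Γ(P, W)), IsUnit t ∧
      P.presheaf.germ W (genericPoint P) (genericPoint_mem hx) t =
        algebraMap (P.presheaf.stalk x) P.functionField v := by
  obtain ⟨W₁, hxW₁, t₁, rfl⟩ := P.presheaf.exists_germ_eq v
  let W := P.basicOpen (resR (inf_le_left : W₁ ⊓ V ≤ W₁) t₁)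
  have hxW : x ∈ W := by
    refine (P.mem_basicOpen _ x (show x ∈ W₁ ⊓ V from ⟨hxW₁, hxV⟩)).mpr ?_
    rwa [germ_resR']
  have hle : W ≤ W₁ ⊓ V := P.basicOpen_le _
  refine ⟨W, hle.trans inf_le_right, hxW, resR hle (resR inf_le_left t₁), isUnit_resR hle _ le_rfl, ?_⟩
  rw [germ_resR_generic, germ_resR_generic, algebraMap_germ]

end Groth.Agent.WDivX
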