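import Groth.Agent.WDivX.FrameCoord

/-!
# Evaluating rational functions along a section
-/

universe u

open AlgebraicGeometry CategoryTheory TopologicalSpace

set_option backward.isDefEq.respectTransparency false

namespace Groth.Agent.WDivX

open Groth.Agent.AModX

variable {P Y : Scheme.{u}} [IsIntegral P] [IsIntegral Y] {f : P ⟶ Y} (s : Y ⟶ P)

/-- `c` is the value of `G` along the section. -/
def IsEv (G : P.functionField) (c : Y.functionField) : Prop :=
  ∃ v : P.presheaf.stalk (s (genericPoint Y)),
    algebraMap (P.presheaf.stalk (s (genericPoint Y))) P.functionField v = G ∧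
      (s.stalkMap (genericPoint Y)).hom v = c

variable {s}

theorem IsEv.unique {G : P.functionField} {c c' : Y.functionField} (h : IsEv s G c) (h' : IsEv s G c') :
    c = c' := by
  obtain ⟨v, hv, rfl⟩ := h
  obtain ⟨v', hv', rfl⟩ := h'
  rw [IsFractionRing.injective (P.presheaf.stalk (s (genericPoint Y))) P.functionField (hv.trans hv'.symm)]

theorem IsEv.mul {G G' : P.functionField} {c c' : Y.functionField} (h : IsEv s G c) (h' : IsEv s G' c') :
    IsEv s (G * G') (c * c') := by
  obtain ⟨v, hv, rfl⟩ := h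
  obtain ⟨v', hv', rfl⟩ := h'
  exact ⟨v * v', by rw [map_mul, hv, hv'], map_mul _ _ _⟩

theorem stalkMap_eq_algebraMap {g : Y ⟶ Y} (e : g = 𝟙 Y) (a : Y.presheaf.stalk (g (genericPoint Y))) :
    (g.stalkMap (genericPoint Y)).hom a = algebraMap (Y.presheaf.stalk (g (genericPoint Y))) Y.functionField a := by
  subst e
  simp only [Scheme.Hom.stalkMap_id]
  exact (ConcreteCategory.congr_hom (TopCat.Presheaf.stalkSpecializes_refl Y.presheaf (genericPoint Y)) a).symm

theorem apply_section (hs : s ≫ f = 𝟙 Y) (y : Y) : f (s y) = y :=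
  congrArg (fun g : Y ⟶ Y => g y) hs

theorem generic_eq (hs : s ≫ f = 𝟙 Y) : f (genericPoint P) = genericPoint Y := by
  have h1 : f (genericPoint P) ⤳ genericPoint Y := by
    have := ((genericPoint_spec P).specializes (y := s (genericPoint Y)) trivial).map f.continuous
    rwa [apply_section hs] at this
  exact (h1.antisymm ((genericPoint_spec Y).specializes trivial)).eq

theorem isEv_const (hs : s ≫ f = 𝟙 Y) (c : Y.functionField) : IsEv s (pullFF f (generic_eq hs) c) c := by
  obtain ⟨a, rfl⟩ : CDiv6.Reg (f (s (genericPoint Y))) c :=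
    (apply_section hs (genericPoint Y)).symm ▸ CDiv6.reg_genericPoint c
  refine ⟨(f.stalkMap (s (genericPoint Y))).hom a, (pullFF_algebraMap f _ _ a).symm, ?_⟩
  have h := ConcreteCategory.congr_hom (Scheme.Hom.stalkMap_comp s f (genericPoint Y)) a
  exact h.symm.trans (stalkMap_eq_algebraMap hs a)

theorem isEv_stalk (y : Y) (v : P.presheaf.stalk (s y)) :
    IsEv s (algebraMap (P.presheaf.stalk (s y)) P.functionField v)
      (algebraMap (Y.presheaf.stalk y) Y.functionField ((s.stalkMap y).hom v)) := by
  have hsp : genericPoint Y ⤳ y := (genericPoint_spec Y).specializes trivial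
  exact ⟨P.presheaf.stalkSpecializes (hsp.map s.continuous) v, CDiv6.algebraMap_specializes _ v,
    ConcreteCategory.congr_hom (s.stalkSpecializes_stalkMap (genericPoint Y) y hsp) v⟩

theorem isEv_section {T : P.Opens} (hT : genericPoint Y ∈ s ⁻¹ᵁ T) (k : Γ(P, T)) :
    IsEv s (P.presheaf.germ T (genericPoint P) (genericPoint_mem (show s (genericPoint Y) ∈ T from hT)) k)
      (Y.presheaf.germ (s ⁻¹ᵁ T) (genericPoint Y) hT (s.app T k)) :=
  ⟨P.presheaf.germ T (s (genericPoint Y)) hT k, algebraMap_germ _ _ k,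
    Scheme.Hom.germ_stalkMap_apply s T (genericPoint Y) hT k⟩

/-- Germs at the generic point of pulled back functions. -/
theorem pullFF_germ' (hη : f (genericPoint P) = genericPoint Y) {U : Y.Opens} (hU : genericPoint Y ∈ U)
    (t : Γ(Y, U)) :
    pullFF f hη (Y.presheaf.germ U (genericPoint Y) hU t) =
      P.presheaf.germ (f ⁻¹ᵁ U) (genericPoint P) (show f (genericPoint P) ∈ U from hη.symm ▸ hU) (f.app U t) := by
  haveI : Nonempty U := ⟨⟨_, hU⟩⟩
  haveI : Nonempty (f ⁻¹ᵁ U) := ⟨⟨genericPoint P, show f (genericPoint P) ∈ U from hη.symm ▸ hU⟩⟩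
  exact pullFF_germ f hη U t

end Groth.Agent.WDivX
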